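import Groth.Agent.TF7.PushSimple
import Groth.Agent.VB5.Split
import Groth.Agent.VB5.Endo
import Groth.Agent.Coherent.Existence.HomAffine
import Groth.Agent.NeronLib.ProductDecomp

/-!
# Endomorphisms act by constants at generic points of geometrically integral components
-/

set_option autoImplicit false
set_option linter.style.haveILetI false
set_option linter.unusedSectionVars false
set_option backward.isDefEq.respectTransparency.types false
set_option backward.isDefEq.respectTransparency false
set_option maxHeartbeats 1000000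

universe u

open CategoryTheory CategoryTheory.Limits AlgebraicGeometry Opposite TopologicalSpace
open Groth.Agent.OmegaLib Groth.Agent.Coherent Groth.Agent.PicLib Groth.Agent.AmpleLib Groth.Agent.EulerLib
  Groth.Agent.CurveRR24

noncomputable section

namespace Groth.Agent.TF7

variable {X : Scheme.{u}} (k : Type u) [Field k] [X.Over (Spec (CommRingCat.of k))]
  [IsProper (X ↘ Spec (CommRingCat.of k))]

/-- Homomorphisms of coherent modules on a proper scheme form a finite-dimensional space. -/
theorem finite_hom_coh {A B : X.Modules} (hA : Coh.IsCoh A) (hB : Coh.IsCoh B) : Module.Finite k (A ⟶ B) := by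
  haveI := EulerLib.isNoetherian_of_proper (X := X) k
  haveI := SerreDual.linear_internalHom k A
  haveI := finite_HH_of_isCoh k (Coherent.Existence.isCoh_internalHom hA hB) 0
  haveI : Module.Finite k (GA (baseHom k X) (internalHom A B)) := Module.Finite.equiv (hhZero k (internalHom A B))
  let Φ : (A ⟶ B) →ₗ[k] GA (baseHom k X) (internalHom A B) :=
    { toFun := fun f => ((internalHomFunctor A).map f).app ⊤ (SerreDual.idSec A)
      map_add' := fun f g => by rw [Functor.map_add]; rfl
      map_smul' := fun c f => by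
        rw [Functor.map_smul]
        refine (KLin.smul_app_apply c ((internalHomFunctor A).map f) ⊤ _).trans ?_
        show (X.presheaf.map (homOfLE le_top).op (Coh.toGlobal (X ↘ Spec (CommRingCat.of k)) c) : Γ(X, ⊤)) •
          (show Γ(internalHom A B, ⊤) from ((internalHomFunctor A).map f).app ⊤ (SerreDual.idSec A)) = _
        rw [show (X.presheaf.map (homOfLE (le_top : (⊤ : X.Opens) ≤ ⊤)).op (Coh.toGlobal (X ↘ Spec (CommRingCat.of k)) c)) =
          Coh.toGlobal (X ↘ Spec (CommRingCat.of k)) c from ConcreteCategory.congr_hom (X.presheaf.map_id (op ⊤)) _]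
        rfl }
  refine Module.Finite.of_injective Φ fun f g h => Scheme.Modules.hom_ext _ _ fun W =>
    ConcreteCategory.hom_ext _ _ fun a => ?_
  exact (SerreDual.ev_map_idSec f W a).symm.trans
    ((congrArg (fun ξ => ev (secHom ξ) W le_top a) h).trans (SerreDual.ev_map_idSec g W a))

local notation "St" => DerSch.stalkFunctor X

/-- An endomorphism of a rank one module is algebraic at the generic points. -/
theorem exists_algebraic_scalar {M : X.Modules} (hM : Coh.IsCoh M) {η : X}
    (e : M.presheaf.stalk η ≃ₗ[X.presheaf.stalk η] X.presheaf.stalk η) (f : M ⟶ M) :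
    letI := (cst k η).toAlgebra
    ∃ lam : X.presheaf.stalk η, IsAlgebraic k lam ∧ ∀ m : (St η).obj M, (St η).map f m = lam • m := by
  letI := (cst k η).toAlgebra
  haveI : Module.Finite k (End M) := finite_hom_coh k hM hM
  let e' : (St η).obj M ≃ₗ[X.presheaf.stalk η] X.presheaf.stalk η := e
  let v := e'.symm 1
  have hv : ∀ m : (St η).obj M, m = e' m • v := fun m => by
    apply e'.injective
    rw [map_smul, e'.apply_symm_apply, smul_eq_mul, mul_one]
  have hlam : ∀ (g : M ⟶ M) (m : (St η).obj M), (St η).map g m = e' ((St η).map g v) • m := fun g m => by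
    conv_lhs => rw [hv m]
    rw [map_smul]
    conv_lhs => rw [hv ((St η).map g v)]
    conv_rhs => rw [hv m]
    rw [smul_smul, smul_smul, mul_comm]
  let ψ : End M →ₐ[k] X.presheaf.stalk η :=
    { toFun := fun g => e' ((St η).map (show M ⟶ M from g) v)
      map_one' := by
        show e' ((St η).map (𝟙 M) v) = 1
        rw [CategoryTheory.Functor.map_id]; exact e'.apply_symm_apply 1
      map_mul' := fun g h => by
        show e' ((St η).map ((show M ⟶ M from h) ≫ (show M ⟶ M from g)) v) = _
        rw [map_comp_apply, hlam (show M ⟶ M from g) _, map_smul, smul_eq_mul]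
      map_zero' := by
        show e' ((St η).map (0 : M ⟶ M) v) = 0
        rw [map_zero_apply, map_zero]
      map_add' := fun g h => by
        show e' ((St η).map ((show M ⟶ M from g) + (show M ⟶ M from h)) v) = _
        rw [Functor.map_add]
        exact map_add e' _ _
      commutes' := fun c => by
        refine (congrArg (fun g : End M => e' ((St η).map g v)) (Algebra.algebraMap_eq_smul_one c)).trans ?_
        show e' ((St η).map (c • 𝟙 M) v) = cst k η c
        rw [← VB5.smulMod_eq_smul, map_smulMod, map_smul, e'.apply_symm_apply, smul_eq_mul, mul_one]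
        rfl }
  refine ⟨ψ f, ?_, fun m => hlam f m⟩
  exact (Algebra.IsIntegral.isIntegral (R := k) (show End M from f)).isAlgebraic.algHom ψ

/-- Algebraic elements at the generic point of a geometrically integral component are constants. -/
theorem algebraic_mem_range [IsReduced X] {C : Set X} (hC : C ∈ irreducibleComponents X) (hCc : IsClosed C)
    (hgi : GeometricallyIntegral (VecSt.subschι X C hCc ≫ (X ↘ Spec (CommRingCat.of k)))) {η : X}
    (hη : η ∈ genericPoints X) (hηC : η ∈ C) (lam : X.presheaf.stalk η)
    (hlam : letI := (cst k η).toAlgebra; IsAlgebraic k lam) : ∃ c : k, cst k η c = lam := by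
  let i := VecSt.subschι X C hCc
  let p : VecSt.subsch X C hCc ⟶ Spec (CommRingCat.of k) := i ≫ (X ↘ Spec (CommRingCat.of k))
  haveI : GeometricallyIntegral p := hgi
  haveI : IsIntegral (VecSt.subsch X C hCc) := GeometricallyIntegral.geometrically_isIntegral (f := p) (𝟙 _) _ _
    (IsPullback.id_vert p).flip
  obtain ⟨y, hy⟩ : η ∈ Set.range i := (range_subschι C hCc).symm ▸ hηC
  subst hy
  have hinj : Function.Injective (i.stalkMap y).hom := by
    letI := (isField_stalk hη).toField
    exact (i.stalkMap y).hom.injective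
  obtain ⟨_, ⟨V, hV : IsAffineOpen V, rfl⟩, hyV, -⟩ :=
    (VecSt.subsch X C hCc).isBasis_affineOpens.exists_subset_of_mem_open
      (Set.mem_univ y : y ∈ ((⊤ : (VecSt.subsch X C hCc).Opens) : Set _)) (⊤ : (VecSt.subsch X C hCc).Opens).2
  obtain ⟨W, hyW, s, hs⟩ := (VecSt.subsch X C hCc).presheaf.exists_germ_eq ((i.stalkMap y).hom lam)
  obtain ⟨_, ⟨V', hV' : IsAffineOpen V', rfl⟩, hyV', hV'W⟩ :=
    (VecSt.subsch X C hCc).isBasis_affineOpens.exists_subset_of_mem_open (hyW : y ∈ (W : Set _)) W.2
  let φ : CommRingCat.of k ⟶ Γ(VecSt.subsch X C hCc, V') :=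
    (Scheme.ΓSpecIso (CommRingCat.of k)).inv ≫ p.appLE ⊤ V' le_top
  letI := φ.hom.toAlgebra
  haveI : Nonempty V' := ⟨⟨y, hyV'⟩⟩
  have hj : hV'.fromSpec ≫ p = Spec.map (CommRingCat.ofHom (algebraMap k Γ(VecSt.subsch X C hCc, V'))) := by
    rw [← IsAffineOpen.SpecMap_appLE_fromSpec p (isAffineOpen_top _) hV' le_top, IsAffineOpen.fromSpec_top,
      Scheme.isoSpec_Spec_inv, ← Spec.map_comp]
    rfl
  let ρ : Γ(VecSt.subsch X C hCc, V') →+* (VecSt.subsch X C hCc).presheaf.stalk y :=
    ((VecSt.subsch X C hCc).presheaf.germ V' y hyV').hom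
  have hρ : ∀ c : k, ρ (algebraMap k Γ(VecSt.subsch X C hCc, V') c) = (i.stalkMap y).hom (cst k (i y) c) := fun c => by
    show ρ (φ c) = (i.stalkMap y).hom (X.presheaf.germ ⊤ (i y) trivial (Coh.toGlobal (X ↘ Spec (CommRingCat.of k)) c))
    refine Eq.trans ?_ (Scheme.Hom.germ_stalkMap_apply i ⊤ y trivial _).symm
    exact TopCat.Presheaf.germ_res_apply _ _ y hyV' _
  let s' := (VecSt.subsch X C hCc).presheaf.map (homOfLE hV'W).op s
  have hs' : ρ s' = (i.stalkMap y).hom lam := (TopCat.Presheaf.germ_res_apply _ _ y hyV' s).trans hs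
  have halg : IsAlgebraic k s' := by
    obtain ⟨q, hq0, hq⟩ := hlam
    refine ⟨q, hq0, ?_⟩
    have hρinj : Function.Injective ρ := AlgebraicGeometry.germ_injective_of_isIntegral _ y hyV'
    refine hρinj ?_
    rw [map_zero, Polynomial.aeval_def, Polynomial.hom_eval₂, hs',
      show ρ.comp (algebraMap k Γ(VecSt.subsch X C hCc, V')) = (i.stalkMap y).hom.comp (cst k (i y)) from
        RingHom.ext hρ, ← Polynomial.hom_eval₂]
    exact (congrArg (i.stalkMap y).hom hq).trans (map_zero _)
  haveI : Nontrivial Γ(VecSt.subsch X C hCc, V') := ⟨⟨1, 0, fun h => one_ne_zero (α := (VecSt.subsch X C hCc).presheaf.stalk y)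
    ((map_one ρ).symm.trans ((congrArg ρ h).trans (map_zero ρ)))⟩⟩
  obtain ⟨c, hc⟩ := NeronLib.isAlgebraic_mem_range_of_geometricallyIntegral (C := Γ(VecSt.subsch X C hCc, V')) p
    hV'.fromSpec hj s' halg
  exact ⟨c, hinj ((hρ c).symm.trans ((congrArg ρ hc).trans hs'))⟩

end Groth.Agent.TF7
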