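import Groth.Agent.TF7.Quot
import Groth.Agent.Coherent.DevissageApps
import Groth.Agent.CurveRR24.Sky
import Groth.Agent.CurveRR24.RR
import Groth.Agent.EulerLib.Degree

/-!
# Euler characteristics of generically equal modules on curves
-/

set_option autoImplicit false
set_option linter.style.haveILetI false
set_option backward.isDefEq.respectTransparency.types false

universe u

open CategoryTheory CategoryTheory.Limits AlgebraicGeometry Opposite TopologicalSpace
open Groth.Agent.OmegaLib Groth.Agent.Coherent Groth.Agent.PicLib Groth.Agent.EulerLib Groth.Agent.AmpleLib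

noncomputable section

namespace Groth.Agent.TF7

variable {X : Scheme.{u}}

local notation "St" => DerSch.stalkFunctor X

theorem isClosed_singleton_of_components [IsNoetherian X]
    (hc : ∀ C ∈ irreducibleComponents (X : Type u), topologicalKrullDim C ≤ 1) {x : X}
    (hx : x ∉ genericPoints X) : IsClosed ({x} : Set X) := by
  by_contra hcl
  obtain ⟨y, hy, hyx⟩ : ∃ y, y ∈ closure ({x} : Set X) ∧ y ≠ x := by
    by_contra h
    push Not at h
    exact hcl (closure_eq_iff_isClosed.1 (Set.Subset.antisymm (fun z hz => h z hz) subset_closure))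
  have hnot : ¬ closure ({x} : Set X) ∈ irreducibleComponents X := hx
  obtain ⟨D, hD, hCD⟩ := exists_mem_irreducibleComponents_subset_of_isIrreducible ({x} : Set X) isIrreducible_singleton
  have hgen := hD.1.isGenericPoint_genericPoint (isClosed_of_mem_irreducibleComponents D hD)
  have hnx : hD.1.genericPoint ∉ closure ({x} : Set X) := fun h => hnot (by
    have hsub : D ⊆ closure ({x} : Set X) := hgen.def ▸ isClosed_closure.closure_subset_iff.2 (Set.singleton_subset_iff.2 h)
    have hsub' : closure ({x} : Set X) ⊆ D := (isClosed_of_mem_irreducibleComponents D hD).closure_subset_iff.2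
      (Set.singleton_subset_iff.2 (hCD rfl))
    rwa [hsub'.antisymm hsub])
  have hD1 : topologicalKrullDim D ≤ ((1 : ℕ) : WithBot ℕ∞) := by exact_mod_cast hc D hD
  have h1 := dim_lt_of_notMem isClosed_closure
    ((isClosed_of_mem_irreducibleComponents D hD).closure_subset_iff.2 (Set.singleton_subset_iff.2 (hCD rfl)))
    (isClosed_of_mem_irreducibleComponents D hD) hgen.def hnx hD1
  have h1' : topologicalKrullDim (closure ({x} : Set X)) ≤ ((0 : ℕ) : WithBot ℕ∞) := by
    revert h1
    generalize topologicalKrullDim (closure ({x} : Set X)) = t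
    intro h
    match t with
    | ⊥ => exact bot_le
    | (t : ℕ∞) =>
      have h' : t < ((1 : ℕ) : ℕ∞) := WithBot.coe_lt_coe.1 h
      exact WithBot.coe_le_coe.2 (ENat.lt_natCast_add_one_iff.1 (by simpa using h'))
  have hxy : x ∉ closure ({y} : Set X) := fun h =>
    hyx ((specializes_iff_mem_closure.2 h).antisymm (specializes_iff_mem_closure.2 hy)).eq
  have h2 := dim_lt_of_notMem isClosed_closure (closure_minimal (Set.singleton_subset_iff.2 hy) isClosed_closure)
    isClosed_closure rfl hxy h1'
  haveI : Nonempty (IrreducibleCloseds (closure ({y} : Set X))) :=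
    ⟨⟨closure {⟨y, subset_closure rfl⟩}, isIrreducible_singleton.closure, isClosed_closure⟩⟩
  exact absurd h2 (not_lt.2 (by exact_mod_cast Order.krullDim_nonneg (α := IrreducibleCloseds (closure ({y} : Set X)))))

theorem isClosed_singleton_of_notGeneric [IsNoetherian X] (hdim : topologicalKrullDim X ≤ 1) {x : X}
    (hx : x ∉ genericPoints X) : IsClosed ({x} : Set X) :=
  isClosed_singleton_of_components (fun _ _ => Topology.IsInducing.subtypeVal.topologicalKrullDim_le.trans hdim) hx

variable (k : Type u) [Field k] [X.Over (Spec (CommRingCat.of k))] [IsProper (X ↘ Spec (CommRingCat.of k))]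

/-- Modules vanishing at the generic points of a curve. -/
theorem euler_small (hdim : topologicalKrullDim X ≤ 1) {Q : X.Modules} (hQ : Coh.IsCoh Q)
    (hgen : ∀ η ∈ genericPoints X, ∀ v : (St η).obj Q, v = 0) :
    0 ≤ Curv2.euler k X Q ∧ (Curv2.euler k X Q = 0 → IsZero Q) := by
  haveI := isNoetherian_of_proper (X := X) k
  haveI := hQ.1
  have hcl : ∀ x ∈ CohB1.support Q, IsClosed ({x} : Set X) := fun x hx => by
    refine isClosed_singleton_of_notGeneric hdim fun hg => hx ⟨fun a b => ?_⟩
    exact (hgen x hg a).trans (hgen x hg b).symm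
  have he : Curv2.euler k X Q = (Module.finrank k (Coh.HH X Q 0) : ℤ) := by
    rw [euler_eq_sum k X Q 0 fun q hq => subsingleton_HH_of_closedPoints Q hQ hcl q hq]
    simp [Finset.sum_range_succ]
  refine ⟨by rw [he]; exact Int.natCast_nonneg _, fun h0 => ?_⟩
  haveI : Module.Finite k (Coh.HH X Q 0) := CurveRR24.finite_HH_of_isCoh k hQ 0
  have h00 : Module.finrank k (Coh.HH X Q 0) = 0 := by exact_mod_cast he.symm.trans h0
  haveI : Subsingleton (Coh.HH X Q 0) := Module.finrank_zero_iff.1 h00
  haveI : Subsingleton Γ(Q, (⊤ : X.Opens)) :=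
    show Subsingleton (GA (baseHom k X) Q) from (CurveRR24.hhZero k Q).symm.toEquiv.subsingleton
  refine ModStalk.isZero_of_stalks fun x => (ModuleCat.isZero_iff_subsingleton).2 ⟨fun a b => ?_⟩
  suffices key : ∀ v : (St x).obj Q, v = 0 from (key a).trans (key b).symm
  intro v
  by_cases hx : x ∈ CohB1.support Q
  swap
  · haveI : Subsingleton (Q.presheaf.stalk x) := not_not.1 hx
    exact Subsingleton.elim (α := Q.presheaf.stalk x) v 0
  obtain ⟨U, hxU, s, rfl⟩ := exists_gm Q v
  have hsupp : IsClosed (CohB1.support Q \ {x}) := by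
    have hfin : (CohB1.support Q).Finite := by
      obtain ⟨S, hS, hScl, hSirr, hTeq⟩ := NoetherianSpace.exists_finite_set_isClosed_irreducible
        (isClosed_support Q (locallyFinGen_of_isFT Q hQ.2))
      rw [hTeq]
      refine hS.sUnion fun C hC => ?_
      have hg := (hSirr C hC).isGenericPoint_genericPoint (hScl C hC)
      rw [← hg.def, (hcl _ (hTeq ▸ ⟨C, hC, hg.mem⟩)).closure_eq]
      exact Set.finite_singleton _
    rw [← Set.biUnion_of_singleton (CohB1.support Q \ {x})]
    exact (hfin.subset Set.diff_subset).isClosed_biUnion fun z hz => hcl z hz.1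
  let V : X.Opens := U ⊓ ⟨(CohB1.support Q \ {x})ᶜ, hsupp.isOpen_compl⟩
  let W : X.Opens := ⟨({x} : Set X)ᶜ, (hcl x hx).isOpen_compl⟩
  have hxV : x ∈ V := ⟨hxU, fun h => h.2 rfl⟩
  let cov : ULift.{u} Bool → X.Opens := fun b => if b.down then V else W
  let sf : ∀ b, Γ(Q, cov b) := fun b => match b with
    | ⟨true⟩ => resM Q (inf_le_left : V ≤ U) s
    | ⟨false⟩ => 0
  have hzero : ∀ (O : X.Opens), (O : Set X) ⊆ (CohB1.support Q)ᶜ → ∀ t : Γ(Q, O), t = 0 := fun O hO t => by
    refine TopCat.Presheaf.section_ext ⟨Q.presheaf, Q.isSheaf⟩ O _ _ fun z hz => ?_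
    haveI : Subsingleton (Q.presheaf.stalk z) := not_not.1 (hO hz)
    exact Subsingleton.elim (α := Q.presheaf.stalk z) _ _
  have hVW : ∀ z, z ∈ V → z ∈ W → z ∈ (CohB1.support Q)ᶜ := fun z hz hw h => hz.2 ⟨h, hw⟩
  obtain ⟨g, hg, -⟩ := TopCat.Sheaf.existsUnique_gluing' ⟨Q.presheaf, Q.isSheaf⟩ cov ⊤
    (fun b => homOfLE le_top)
    (fun z _ => by
      by_cases hzx : z = x
      · exact Opens.mem_iSup.2 ⟨⟨true⟩, hzx ▸ hxV⟩
      · exact Opens.mem_iSup.2 ⟨⟨false⟩, hzx⟩)
    sf (fun a b => by
      obtain ⟨a⟩ := a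
      obtain ⟨b⟩ := b
      cases a <;> cases b
      · rfl
      · exact (hzero (W ⊓ V) (fun z (hz : z ∈ W ⊓ V) => hVW z hz.2 hz.1) _).trans (hzero (W ⊓ V) (fun z (hz : z ∈ W ⊓ V) => hVW z hz.2 hz.1) _).symm
      · exact (hzero (V ⊓ W) (fun z (hz : z ∈ V ⊓ W) => hVW z hz.1 hz.2) _).trans (hzero (V ⊓ W) (fun z (hz : z ∈ V ⊓ W) => hVW z hz.1 hz.2) _).symm
      · rfl)
  have h1 : resM Q (inf_le_left : V ≤ U) s = 0 := by
    refine (hg ⟨true⟩).symm.trans ?_
    rw [Subsingleton.elim (α := Γ(Q, (⊤ : X.Opens))) g 0]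
    exact map_zero _
  rw [← gm_res Q hxU (inf_le_left : V ≤ U) hxV]
  show gm Q V x hxV (resM Q (inf_le_left : V ≤ U) s) = 0
  rw [h1, gm_zero]

/-- **A generically bijective monomorphism does not decrease `χ`**, with equality only for isomorphisms. -/
theorem euler_le_of_generic (hdim : topologicalKrullDim X ≤ 1) {A B : X.Modules} (hA : Coh.IsCoh A)
    (hB : Coh.IsCoh B) (f : A ⟶ B) [Mono f]
    (hsurj : ∀ η ∈ genericPoints X, ∀ b : (St η).obj B, ∃ a, (St η).map f a = b) :
    Curv2.euler k X A ≤ Curv2.euler k X B ∧ (Curv2.euler k X A = Curv2.euler k X B ↔ IsIso f) := by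
  haveI := isNoetherian_of_proper (X := X) k
  have hQ : Coh.IsCoh (cokernel f) := isCoh_cokernel f hA.1 hB
  have hS : (ShortComplex.mk f (cokernel.π f) (cokernel.condition f)).ShortExact :=
    { exact := ShortComplex.exact_cokernel f }
  have hadd := EulerLib.euler_additive k X _ hS hA hB hQ
  have hgen : ∀ η ∈ genericPoints X, ∀ v : (St η).obj (cokernel f), v = 0 := fun η hη v => by
    obtain ⟨b, rfl⟩ := stalk_surjective (cokernel.π f) η v
    obtain ⟨a, rfl⟩ := hsurj η hη b
    rw [← map_comp_apply, cokernel.condition, map_zero_apply]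
  obtain ⟨h0, h1⟩ := euler_small k hdim hQ hgen
  refine ⟨by linarith [hadd], fun he => ?_, fun h => euler_congr k X (asIso f)⟩
  haveI : Epi f := Preadditive.epi_of_isZero_cokernel _ (h1 (by linarith [hadd]))
  exact isIso_of_mono_of_epi f

end Groth.Agent.TF7
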