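import Groth.Agent.TF7.Quot
import Groth.Agent.RefHullLib.Hartogs
import Groth.Agent.Coherent.DevissageIdeal

/-!
# Existence of torsion-free quotients on subcurves
-/

set_option autoImplicit false
set_option linter.style.haveILetI false
set_option backward.isDefEq.respectTransparency.types false

universe u

open CategoryTheory CategoryTheory.Limits AlgebraicGeometry Opposite TopologicalSpace
open Groth.Agent.OmegaLib Groth.Agent.Coherent Groth.Agent.AmpleLib Groth.Agent.PicLib

noncomputable section

namespace Groth.Agent.TF7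

variable {X : Scheme.{u}}

local notation "St" => DerSch.stalkFunctor X

theorem exists_genericPoint_specializes (x : X) : ∃ η ∈ genericPoints X, η ⤳ x := by
  obtain ⟨D, hD, hxD⟩ := exists_mem_irreducibleComponents_subset_of_isIrreducible ({x} : Set X) isIrreducible_singleton
  have hgen := hD.1.isGenericPoint_genericPoint (isClosed_of_mem_irreducibleComponents D hD)
  exact ⟨hD.1.genericPoint, (show closure _ ∈ irreducibleComponents X by rw [hgen.def]; exact hD),
    hgen.specializes (hxD rfl)⟩

/-- Torsion-free quotients of a rank one torsion-free module exist on every union of components. -/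
theorem exists_quotOn [IsNoetherian X] [IsReduced X] {M : X.Modules} (hM : TFOne.IsTF1 X M) {T : Set X}
    (hT : IsClosed T) (hTc : ∀ x ∈ T, ∃ η ∈ genericPoints X, η ∈ T ∧ η ⤳ x) :
    ∃ (G : X.Modules) (π : M ⟶ G), TFOne.IsQuotOn X M T G π := by
  have hfin : {C | C ∈ irreducibleComponents (X : Type u) ∧ ¬ C ⊆ T}.Finite :=
    NoetherianSpace.finite_irreducibleComponents.subset fun C hC => hC.1
  let D : X.Opens := ⟨(⋃₀ {C | C ∈ irreducibleComponents (X : Type u) ∧ ¬ C ⊆ T})ᶜ, by
    rw [isOpen_compl_iff, Set.sUnion_eq_biUnion]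
    exact hfin.isClosed_biUnion fun C hC => isClosed_of_mem_irreducibleComponents C hC.1⟩
  have hD : ∀ η ∈ genericPoints X, η ∈ D ↔ η ∈ T := fun η hη => by
    show η ∉ ⋃₀ {C | C ∈ irreducibleComponents (X : Type u) ∧ ¬ C ⊆ T} ↔ _
    rw [mem_sUnion_components hη, not_not, closure_subset_iff_mem hT]
  let J := (Scheme.Modules.pushforward D.ι).obj (M.restrict D.ι)
  let φ : M ⟶ J := (Scheme.Modules.restrictAdjunction D.ι).unit.app M
  have hJ : Coh.IsQCoh J := RefHullLib.isQCoh_push_restrict M hM.1.1 D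
  have key : ∀ (x : X) (m : (St x).obj M),
      (St x).map φ m = 0 ↔ ∀ η ∈ genericPoints X, η ∈ T → ∀ hs : η ⤳ x, spec M hs m = 0 := by
    intro x m
    refine ⟨fun h η hη hηT hs => (bijective_stalk_restrictUnit M ((hD η hη).2 hηT)).1 ?_, fun h => ?_⟩
    · refine Eq.trans ((spec_map φ hs m).symm.trans ?_) (map_zero _).symm
      rw [h, spec_zero]
    obtain ⟨U₀, hx₀, s₀, rfl⟩ := exists_gm M m
    let C₀ : Set X := ⋃ η ∈ {η | η ∈ genericPoints X ∧ ¬ η ⤳ x}, closure ({η} : Set X)
    have hC₀ : IsClosed C₀ := by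
      refine Set.Finite.isClosed_biUnion (Set.Finite.subset ?_ fun η hη => hη.1) fun _ _ => isClosed_closure
      refine Set.Finite.of_finite_image (f := fun η => closure ({η} : Set X))
        (NoetherianSpace.finite_irreducibleComponents.subset ?_) fun a _ b _ h =>
          ((specializes_iff_closure_subset.2 h.ge).antisymm (specializes_iff_closure_subset.2 h.le)).eq
      rintro _ ⟨η, hη, rfl⟩
      exact hη
    let U : X.Opens := U₀ ⊓ ⟨C₀ᶜ, hC₀.isOpen_compl⟩
    have hxU : x ∈ U := ⟨hx₀, fun h' => by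
      simp only [C₀, Set.mem_iUnion] at h'
      obtain ⟨η, hη, hx'⟩ := h'
      exact hη.2 (specializes_iff_mem_closure.2 hx')⟩
    let s := resM M (inf_le_left : U ≤ U₀) s₀
    have hs : resM M (inf_le_left : U ⊓ D ≤ U) s = 0 := by
      refine TopCat.Presheaf.section_ext ⟨M.presheaf, M.isSheaf⟩ (U ⊓ D) _ _ fun y hy => ?_
      show gm M (U ⊓ D) y hy _ = gm M (U ⊓ D) y hy 0
      rw [gm_zero]
      refine eq_zero_of_generic hM.1.1 hM.2.1 _ fun η hη hηy => ?_
      have hηD : η ∈ U ⊓ D := hηy.mem_open (U ⊓ D).2 hy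
      have hηx : η ⤳ x := by_contra fun hn => hηD.1.2 (Set.mem_biUnion ⟨hη, hn⟩ (subset_closure rfl))
      refine (spec_gm M hηy (U ⊓ D) hy _).trans ?_
      refine (gm_res M hηD.1 (inf_le_left : U ⊓ D ≤ U) hηD s).trans ?_
      refine (gm_res M hηD.1.1 (inf_le_left : U ≤ U₀) hηD.1 s₀).trans ?_
      exact (spec_gm M hηx U₀ hx₀ s₀).symm.trans (h η hη ((hD η hη).1 hηD.2) hηx)
    have hsU : φ.app U s = 0 := by
      apply RefHullLib.resM_push_injective M D U
      rw [map_zero]
      have hnat : resM J (inf_le_left : U ⊓ D ≤ U) (φ.app U s) = φ.app (U ⊓ D) (resM M inf_le_left s) :=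
        (ConcreteCategory.congr_hom (φ.mapPresheaf.naturality (homOfLE (inf_le_left : U ⊓ D ≤ U)).op) s).symm
      rw [hnat, hs, map_zero]
    rw [← gm_res M hx₀ (inf_le_left : U ≤ U₀) hxU]
    rw [map_gm]
    show gm J U x hxU (φ.app U s) = 0
    rw [hsU, gm_zero]
  let G := cokernel (kernel.ι φ)
  let π : M ⟶ G := cokernel.π (kernel.ι φ)
  let ψ : G ⟶ J := cokernel.desc (kernel.ι φ) φ (kernel.condition φ)
  have hker : ∀ (x : X) (m : (St x).obj M),
      (St x).map π m = 0 ↔ ∀ η ∈ genericPoints X, η ∈ T → ∀ hs : η ⤳ x, spec M hs m = 0 := by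
    intro x m
    rw [← key x m]
    refine ⟨fun h => ?_, fun h => ?_⟩
    · rw [← show π ≫ ψ = φ from cokernel.π_desc _ _ _, map_comp_apply, h, map_zero]
    · obtain ⟨a, rfl⟩ := exists_kernel_lift φ m h
      rw [← map_comp_apply, cokernel.condition, map_zero_apply]
  have hK : Coh.IsCoh (kernel φ) := isCoh_kernel φ hM.1 hJ
  have hGc : Coh.IsCoh G := isCoh_cokernel _ hK.1 hM.1
  refine ⟨G, π, inferInstance, hGc, ?_, ?_⟩
  · refine fun x => ⟨fun a ha => isSMulRegular_iff_right_eq_zero_of_smul.2 fun g hag => ?_⟩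
    obtain ⟨m, rfl⟩ := stalk_surjective π x g
    rw [show a • (show G.presheaf.stalk x from (St x).map π m) = (St x).map π (a • m) from (map_smul _ _ _).symm] at hag
    refine (hker x m).2 fun η hη hηT hs => ?_
    have h0 := (hker x _).1 hag η hη hηT hs
    have hmul : spec M hs (a • m) = (X.presheaf.stalkSpecializes hs).hom a • spec M hs m :=
      CycLib28.stalkSpecializes_smul' M hs a m
    rw [hmul] at h0
    have hu : (X.presheaf.stalkSpecializes hs).hom a ≠ 0 := by
      letI := (X.presheaf.stalkSpecializes hs).hom.toAlgebra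
      haveI := Misc15.isLocalization_stalkSpecializes hs
      intro h0'
      obtain ⟨c, hc⟩ := (IsLocalization.map_eq_zero_iff
        ((IsUnit.submonoid (X.presheaf.stalk η)).comap (X.presheaf.stalkSpecializes hs).hom) (X.presheaf.stalk η) a).1 h0'
      have hc0 : (c : X.presheaf.stalk x) = 0 := ha.right (show (c : X.presheaf.stalk x) * a = 0 * a by rw [hc, zero_mul])
      have := c.2
      rw [Submonoid.mem_comap, hc0, map_zero] at this
      exact not_isUnit_zero this
    obtain ⟨b, hb⟩ := (isField_stalk hη).mul_inv_cancel hu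
    calc spec M hs m = (1 : X.presheaf.stalk η) • spec M hs m := (one_smul _ _).symm
      _ = 0 := by rw [← hb, mul_comm, mul_smul, h0, smul_zero]
  · ext x
    refine ⟨fun hx => by_contra fun hxT => hx ⟨fun g g' => ?_⟩, fun hx hsub => ?_⟩
    · have key0 : ∀ g : (St x).obj G, g = 0 := fun g => by
        obtain ⟨m, rfl⟩ := stalk_surjective π x g
        exact (hker x m).2 fun η _ hηT hs => absurd (hs.mem_closed hT hηT) hxT
      exact (key0 g).trans (key0 g').symm
    · obtain ⟨η, hη, hηT, hs⟩ := hTc x hx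
      have hηG : η ∈ CohB1.support G := fun hsubη => by
        obtain ⟨e⟩ := hM.2.2 η hη
        have h0 : (St η).map π (e.symm 1) = 0 :=
          Subsingleton.elim (α := G.presheaf.stalk η) ((St η).map π (e.symm 1)) 0
        have h1 := (hker η (e.symm 1)).1 h0 η hη hηT specializes_rfl
        rw [spec_refl] at h1
        exact one_ne_zero (e.symm.injective (h1.trans (map_zero e.symm).symm))
      exact hs.mem_closed (isClosed_support G (locallyFinGen_of_isFT G hGc.2)) hηG hsub

end Groth.Agent.TF7
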