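import Groth.Prelude.Def_TFOne
import Groth.Agent.CycLib28.StalkLocal
import Groth.Agent.OmegaLib.StalkLocal
import Groth.Agent.VarietyLib.TensorExact
import Groth.Agent.SerreDual.ExtShGeneric

/-!
# Torsion-free modules on reduced schemes and their quotients on subcurves
-/

set_option autoImplicit false
set_option linter.style.haveILetI false
set_option backward.isDefEq.respectTransparency.types false

universe u

open CategoryTheory CategoryTheory.Limits AlgebraicGeometry Opposite TopologicalSpace
open Groth.Agent.OmegaLib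

noncomputable section

namespace Groth.Agent.TF7

variable {X : Scheme.{u}}

local notation "St" => DerSch.stalkFunctor X

/-- Specialisation of stalk elements. -/
def spec (M : X.Modules) {η x : X} (h : η ⤳ x) (v : (St x).obj M) : (St η).obj M :=
  M.presheaf.stalkSpecializes h v

theorem spec_gm (M : X.Modules) {η x : X} (h : η ⤳ x) (U : X.Opens) (hx : x ∈ U) (s : Γ(M, U)) :
    spec M h (gm M U x hx s) = gm M U η (h.mem_open U.2 hx) s :=
  TopCat.Presheaf.germ_stalkSpecializes_apply M.presheaf hx h s

theorem spec_map {M N : X.Modules} (f : M ⟶ N) {η x : X} (h : η ⤳ x) (v : (St x).obj M) :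
    spec N h ((St x).map f v) = (St η).map f (spec M h v) := by
  obtain ⟨U, hx, s, rfl⟩ := exists_gm M v
  rw [map_gm, spec_gm, spec_gm, map_gm]

theorem spec_zero (M : X.Modules) {η x : X} (h : η ⤳ x) : spec M h 0 = 0 :=
  map_zero (M.presheaf.stalkSpecializes h).hom

theorem spec_refl (M : X.Modules) {x : X} (h : x ⤳ x) (v : (St x).obj M) : spec M h v = v := by
  obtain ⟨U, hx, s, rfl⟩ := exists_gm M v
  rw [spec_gm]

theorem eq_of_specializes_generic {η y : X} (hη : η ∈ genericPoints X) (h : y ⤳ η) : y = η := by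
  have h1 : closure ({η} : Set X) ⊆ closure {y} := h.closure_subset
  exact (specializes_iff_closure_subset.2 (hη.2 isIrreducible_singleton.closure h1) |>.antisymm h).eq.symm

/-- A point specialising to no other generic point is closed in a curve; here: generic points are maximal. -/
theorem isField_stalk [IsReduced X] {η : X} (hη : η ∈ genericPoints X) : IsField (X.presheaf.stalk η) :=
  SerreDual.isField_stalk_of_generic hη

/-- **Sections of a torsion-free module vanishing at the generic points vanish.** -/
theorem eq_zero_of_generic [IsLocallyNoetherian X] [IsReduced X] {G : X.Modules} (hG : Coh.IsQCoh G)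
    (ht : TorSh.IsTorsionFree G) {x : X} (g : (St x).obj G)
    (h : ∀ η ∈ genericPoints X, ∀ hs : η ⤳ x, spec G hs g = 0) : g = 0 := by
  let A := X.presheaf.stalk x
  have hmin : ∀ P ∈ minimalPrimes A, ∃ a ∉ P, a • (show G.presheaf.stalk x from g) = 0 := by
    intro P hP
    haveI := hP.1.1
    obtain ⟨ρ, hρ, hloc⟩ := CycLib28.isLocalizedModule_stalkSpecializes hG x ⟨P, hP.1.1⟩
    have hgen : X.fromSpecStalk x ⟨P, hP.1.1⟩ ∈ genericPoints X := by
      let η := X.fromSpecStalk x ⟨P, hP.1.1⟩
      refine ⟨isIrreducible_singleton.closure, fun T hT hsub => ?_⟩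
      intro t ht'
      have hcl : IsIrreducible (closure T) := hT.closure
      have hξ : hcl.genericPoint ⤳ η :=
        (hcl.isGenericPoint_genericPoint isClosed_closure).specializes
          (subset_closure (hsub (subset_closure rfl)))
      have hξx : hcl.genericPoint ⤳ x := hξ.trans (CycLim28.fromSpecStalk_specializes x _)
      obtain ⟨Q, hQ⟩ := X.range_fromSpecStalk.ge hξx
      have hQP : Q = ⟨P, hP.1.1⟩ := by
        have h1 : Q ⤳ (⟨P, hP.1.1⟩ : PrimeSpectrum A) := by
          have : X.fromSpecStalk x Q ⤳ X.fromSpecStalk x ⟨P, hP.1.1⟩ := hQ ▸ hξ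
          exact (X.fromSpecStalk x).isEmbedding.isInducing.specializes_iff.1 this
        have h2 : Q.asIdeal ≤ P := (PrimeSpectrum.le_iff_specializes _ _).2 h1
        exact PrimeSpectrum.ext (le_antisymm h2 (hP.2 ⟨Q.2, bot_le⟩ h2))
      rw [hQP] at hQ
      show t ∈ closure ({η} : Set X)
      rw [show η = hcl.genericPoint from hQ, (hcl.isGenericPoint_genericPoint isClosed_closure).def]
      exact subset_closure ht'
    have h0 : ρ g = 0 := (hρ g).trans (h _ hgen (CycLim28.fromSpecStalk_specializes x _))
    letI := Module.compHom (G.presheaf.stalk (X.fromSpecStalk x ⟨P, hP.1.1⟩))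
      (X.presheaf.stalkSpecializes (CycLim28.fromSpecStalk_specializes x ⟨P, hP.1.1⟩)).hom
    obtain ⟨⟨a, ha⟩, haz⟩ := (IsLocalizedModule.eq_zero_iff P.primeCompl ρ).1 h0
    exact ⟨a, ha, haz⟩
  let ann : Ideal A := LinearMap.ker (LinearMap.toSpanSingleton A (G.presheaf.stalk x) g)
  have hann : ∀ a : A, a ∈ ann ↔ a • (show G.presheaf.stalk x from g) = 0 := fun a => Iff.rfl
  by_contra hne
  have hfin : (minimalPrimes A).Finite := minimalPrimes.finite_of_isNoetherianRing A
  have hcov : (ann : Set A) ⊆ ⋃ P ∈ (↑hfin.toFinset : Set (Ideal A)), (P : Set A) := by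
    intro a ha
    by_contra hna
    simp only [Set.mem_iUnion, not_exists, Finset.mem_coe, Set.Finite.mem_toFinset] at hna
    have hreg : IsRegular a := isRegular_iff_mem_nonZeroDivisors.2 (mem_nonZeroDivisors_iff_right.2 fun b hb => by
      have : b ∈ nilradical A := by
        rw [nilradical, ← Ideal.sInf_minimalPrimes]
        refine Submodule.mem_sInf.2 fun P hP => ?_
        exact (hP.1.1.mem_or_mem (hb ▸ P.zero_mem : b * a ∈ P)).resolve_right fun h' => hna P hP h'
      exact (IsReduced.eq_zero b (mem_nilradical.1 this)))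
    exact hne ((ht x).isSMulRegular hreg |>.right_eq_zero_of_smul ((hann a).1 ha))
  obtain ⟨P, hP, hle⟩ := (Ideal.subset_union_prime ⊥ ⊥ fun P hP _ _ =>
    (hfin.mem_toFinset.1 hP).1.1).1 hcov
  obtain ⟨a, ha, haz⟩ := hmin P (hfin.mem_toFinset.1 hP)
  exact ha (hle ((hann a).2 haz))

end Groth.Agent.TF7
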