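import Groth.Agent.TF7.Euler
import Groth.Agent.VarietyLib.CurveDegree
import Groth.Agent.FlatCx12.PushStalk

/-!
# Degrees on subcurves are sums over components
-/

set_option autoImplicit false
set_option linter.style.haveILetI false
set_option backward.isDefEq.respectTransparency.types false

universe u

open CategoryTheory CategoryTheory.Limits AlgebraicGeometry Opposite TopologicalSpace
open Groth.Agent.OmegaLib Groth.Agent.Coherent Groth.Agent.EulerLib Groth.Agent.VarietyLib

noncomputable section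

namespace Groth.Agent.TF7

variable {X : Scheme.{u}} (k : Type u) [Field k] [X.Over (Spec (CommRingCat.of k))]
  [IsProper (X ↘ Spec (CommRingCat.of k))]

local notation "St" => DerSch.stalkFunctor X

/-- The degree of a vector bundle on the reduced subscheme of a closed subset. -/
def degOn (E : X.Modules) (r : ℕ) (T : Set X) (hT : IsClosed T) : ℤ :=
  letI : (VecSt.subsch X T hT).Over (Spec (CommRingCat.of k)) :=
    ⟨VecSt.subschι X T hT ≫ (X ↘ Spec (CommRingCat.of k))⟩
  Curv2.deg k (VecSt.subsch X T hT) ((Scheme.Modules.pullback (VecSt.subschι X T hT)).obj E) r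

theorem rBeta_eq (E : X.Modules) (r : ℕ) (T : Set X) (hT : IsClosed T) (G : X.Modules) :
    TFOne.rBeta X k (X ↘ Spec (CommRingCat.of k)) T hT E r G = (r : ℤ) * Curv2.euler k X G + degOn k E r T hT :=
  rfl

omit [X.Over (Spec (CommRingCat.of k))] [IsProper (X ↘ Spec (CommRingCat.of k))] in
theorem dim_le_one_of_pure [AlgebraicGeometry.IsNoetherian X]
    (hpure : ∀ C ∈ irreducibleComponents (X : Type u), topologicalKrullDim C = 1) : topologicalKrullDim X ≤ 1 := by
  rw [DimLib.topologicalKrullDim_eq_krullDim]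
  refine iSup_le fun c => ?_
  by_contra hlt
  have hl : 2 ≤ c.length := by
    by_contra h
    exact hlt (by exact_mod_cast Nat.lt_succ_iff.1 (not_le.1 h))
  have h1 : c ⟨0, by omega⟩ < c ⟨1, by omega⟩ := c.strictMono (Fin.mk_lt_mk.2 Nat.zero_lt_one)
  have h2 : c ⟨1, by omega⟩ < c ⟨2, by omega⟩ := c.strictMono (Fin.mk_lt_mk.2 Nat.one_lt_two)
  have hng : c ⟨1, by omega⟩ ∉ genericPoints X := fun hg => by
    have h := eq_of_specializes_generic hg (Scheme.le_iff_specializes.1 h2.le)
    exact h2.ne h.symm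
  have hcl := isClosed_singleton_of_components (fun C hC => (hpure C hC).le) hng
  exact h1.ne ((Scheme.le_iff_specializes.1 h1.le).mem_closed hcl rfl : _ ∈ ({c ⟨1, by omega⟩} : Set X))

omit [X.Over (Spec (CommRingCat.of k))] [IsProper (X ↘ Spec (CommRingCat.of k))] in
theorem genericPoints_finite [NoetherianSpace X] : (genericPoints X).Finite := by
  refine Set.Finite.of_finite_image (f := fun η => closure ({η} : Set X)) ?_ fun a _ b _ h => ?_
  · refine NoetherianSpace.finite_irreducibleComponents.subset ?_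
    rintro _ ⟨η, hη, rfl⟩
    exact hη
  · exact ((specializes_iff_closure_subset.2 h.ge).antisymm (specializes_iff_closure_subset.2 h.le)).eq

/-- Degrees on subcurves and twisted Euler characteristics as sums over components. -/
theorem exists_degree_sum' [IsReduced X] (hdim : topologicalKrullDim X ≤ 1)
    {r : ℕ} {E : X.Modules} (hE : FlatMod.IsFinLocFreeOfRank r E) :
    ∃ (S : Finset X) (c : X → ℤ), (∀ ξ, ξ ∈ S ↔ ξ ∈ genericPoints X) ∧
      (∀ M : X.Modules, Coh.IsCoh M → degFun k r E M = ∑ ξ ∈ S, mult M ξ • c ξ) ∧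
      ∀ (T : Set X) (hT : IsClosed T),
        degOn k E r T hT = ∑ ξ ∈ S, Set.indicator T c ξ := by
  classical
  haveI := isNoetherian_of_proper (X := X) k
  obtain ⟨S₁, -, hS', hsum₁⟩ := degFun_eq_sum k hdim hE
  let S : Finset X := (genericPoints_finite (X := X)).toFinset
  have hmem : ∀ ξ, ξ ∈ S ↔ ξ ∈ genericPoints X := fun ξ => Set.Finite.mem_toFinset _
  have hsub : S₁ ⊆ S := fun ξ h => (hmem ξ).2 (by_contra fun hn => by
    have hd := hS' ξ h
    rw [(isClosed_singleton_of_notGeneric hdim hn).closure_eq] at hd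
    haveI : Subsingleton ({ξ} : Set X) := Set.subsingleton_coe _ |>.2 Set.subsingleton_singleton
    have h0 : topologicalKrullDim ({ξ} : Set X) ≤ 0 := topologicalKrullDim_zero_of_discreteTopology _
    rw [hd] at h0
    exact absurd h0 (by decide))
  let c : X → ℤ := Set.indicator (S₁ : Set X) fun ξ => degFun k r E (AssSch12.clM ξ)
  have hsum : ∀ M : X.Modules, Coh.IsCoh M → degFun k r E M = ∑ ξ ∈ S, mult M ξ • c ξ := fun M hM => by
    rw [hsum₁ M hM, ← Finset.sum_subset hsub fun ξ _ hn => by
      rw [show c ξ = 0 from Set.indicator_of_notMem (by exact_mod_cast hn) _, smul_zero]]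
    exact Finset.sum_congr rfl fun ξ hξ => by
      rw [show c ξ = degFun k r E (AssSch12.clM ξ) from Set.indicator_of_mem (by exact_mod_cast hξ) _]
  refine ⟨S, c, hmem, hsum, fun T hT => ?_⟩
  let I := Scheme.IdealSheafData.vanishingIdeal (X := X) ⟨T, hT⟩
  haveI : IsLocallyNoetherian I.subscheme := LocallyOfFiniteType.isLocallyNoetherian I.subschemeι
  letI : I.subscheme.Over (Spec (CommRingCat.of k)) := ⟨I.subschemeι ≫ (X ↘ Spec (CommRingCat.of k))⟩
  haveI : IsProper (I.subscheme ↘ Spec (CommRingCat.of k)) :=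
    inferInstanceAs (IsProper (I.subschemeι ≫ (X ↘ Spec (CommRingCat.of k))))
  have h := (degFun_push k I.subschemeι rfl hE).symm.trans (hsum _ (isCoh_push_finite I.subschemeι (isCoh_structureModule _)))
  refine (show degOn k E r T hT = _ from h).trans (Finset.sum_congr rfl fun ξ hξ => ?_)
  have hgen := (hmem ξ).1 hξ
  have hsupp : (I.support : Set X) = T := by
    rw [Scheme.IdealSheafData.coe_support_vanishingIdeal]; rfl
  by_cases hξT : ξ ∈ T
  · rw [Set.indicator_of_mem hξT]
    suffices hm : mult ((Coh.push I.subschemeι).obj (Coh.structureModule I.subscheme)) ξ = 1 by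
      rw [hm, one_smul]
    haveI := CurveRR24.epi_toSubscheme I
    let Q := ClSub.quotMod I
    have hne : ∃ v : (St ξ).obj Q, v ≠ 0 := by
      obtain ⟨t, ht⟩ : ξ ∈ Set.range I.subschemeι.base := by rw [I.range_subschemeι, hsupp]; exact hξT
      subst ht
      obtain ⟨e⟩ := FlatCx12.PushStalk.nonempty_stalkPushIso I.subschemeι t
      let e' := (e.app (Coh.structureModule I.subscheme)).toLinearEquiv
      haveI : Nontrivial (((DerSch.stalkFunctor I.subscheme t).obj (Coh.structureModule I.subscheme))) :=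
        ⟨⟨AssSch12.unitOne t, 0, fun h => one_ne_zero ((AssSch12.bijective_smul_unitOne t).1 (show (1 : I.subscheme.presheaf.stalk t) • AssSch12.unitOne t = 0 • AssSch12.unitOne t by rw [one_smul, zero_smul]; exact h))⟩⟩
      haveI : Nontrivial ((St (I.subschemeι t)).obj Q) :=
        @Equiv.nontrivial _ _ e'.toEquiv ‹Nontrivial ((DerSch.stalkFunctor I.subscheme t).obj (Coh.structureModule I.subscheme))›
      exact exists_ne 0
    obtain ⟨v, hv⟩ := hne
    haveI : IsSimpleModule (X.presheaf.stalk ξ) ((St ξ).obj Q) := by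
      letI := (isField_stalk hgen).toField
      obtain ⟨a, rfl⟩ := stalk_surjective (ClSub.toSubscheme I) ξ v
      refine isSimpleModule_iff_toSpanSingleton_surjective.2 ⟨⟨⟨_, 0, hv⟩⟩, fun w hw b => ?_⟩
      obtain ⟨w', rfl⟩ := stalk_surjective (ClSub.toSubscheme I) ξ w
      obtain ⟨b', rfl⟩ := stalk_surjective (ClSub.toSubscheme I) ξ b
      have h1 : LEOne (Coh.structureModule X) := leOne_of_isRkOne fun η hη => ⟨(LinearEquiv.ofBijective
        (LinearMap.toSpanSingleton (X.presheaf.stalk η) _ (AssSch12.unitOne η)) (AssSch12.bijective_smul_unitOne η)).symm⟩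
      obtain ⟨c, rfl⟩ := h1 ξ hgen w' b' fun h0 => hw (by rw [h0, map_zero])
      exact ⟨c, (map_smul _ _ _).symm⟩
    show (Module.length (X.presheaf.stalk ξ) ((St ξ).obj Q)).toNat = 1
    rw [Module.length_eq_one_iff.2 ‹_›]
    rfl
  · rw [Set.indicator_of_notMem hξT, mult_eq_zero, zero_smul]
    exact fun h => hξT (hsupp ▸ CurveRR24.support_quotMod_subset I h)

/-- Degrees on subcurves are additive over components. -/
theorem exists_degree_sum [IsReduced X]
    (hpure : ∀ C ∈ irreducibleComponents (X : Type u), topologicalKrullDim C = 1)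
    {r : ℕ} {E : X.Modules} (hE : FlatMod.IsFinLocFreeOfRank r E) :
    ∃ (S : Finset X) (c : X → ℤ), (∀ ξ, ξ ∈ S ↔ ξ ∈ genericPoints X) ∧
      ∀ (T : Set X) (hT : IsClosed T),
        degOn k E r T hT = ∑ ξ ∈ S, Set.indicator T c ξ := by
  haveI := isNoetherian_of_proper (X := X) k
  obtain ⟨S, c, h1, -, h2⟩ := exists_degree_sum' k (dim_le_one_of_pure hpure) hE
  exact ⟨S, c, h1, h2⟩

/-- Inclusion-exclusion for degrees. -/
theorem degOn_add [IsReduced X]
    (hpure : ∀ C ∈ irreducibleComponents (X : Type u), topologicalKrullDim C = 1)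
    {r : ℕ} {E : X.Modules} (hE : FlatMod.IsFinLocFreeOfRank r E) {A B U W : Set X}
    (hA : IsClosed A) (hB : IsClosed B) (hU : IsClosed U) (hW : IsClosed W)
    (hU' : ∀ η ∈ genericPoints X, η ∈ U ↔ η ∈ A ∨ η ∈ B) (hW' : ∀ η ∈ genericPoints X, η ∈ W ↔ η ∈ A ∧ η ∈ B) :
    degOn k E r U hU + degOn k E r W hW = degOn k E r A hA + degOn k E r B hB := by
  classical
  obtain ⟨S, c, hS, h⟩ := exists_degree_sum k hpure hE
  rw [h, h, h, h, ← Finset.sum_add_distrib, ← Finset.sum_add_distrib]
  refine Finset.sum_congr rfl fun ξ hξ => ?_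
  have h1 := hU' ξ ((hS ξ).1 hξ)
  have h2 := hW' ξ ((hS ξ).1 hξ)
  simp only [Set.indicator_apply]
  by_cases ha : ξ ∈ A <;> by_cases hb : ξ ∈ B <;> simp [ha, hb, h1, h2]

end Groth.Agent.TF7
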