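import Groth.Agent.TF7.Euler

/-!
# Inclusion-exclusion inequality for torsion-free quotients
-/

set_option autoImplicit false
set_option linter.style.haveILetI false
set_option backward.isDefEq.respectTransparency.types false

universe u

open CategoryTheory CategoryTheory.Limits AlgebraicGeometry Opposite TopologicalSpace
open Groth.Agent.OmegaLib Groth.Agent.Coherent Groth.Agent.EulerLib

noncomputable section

namespace Groth.Agent.TF7

variable {X : Scheme.{u}} (k : Type u) [Field k] [X.Over (Spec (CommRingCat.of k))]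
  [IsProper (X ↘ Spec (CommRingCat.of k))]

local notation "St" => DerSch.stalkFunctor X

theorem euler_biprod {A B : X.Modules} (hA : Coh.IsCoh A) (hB : Coh.IsCoh B) :
    Curv2.euler k X (A ⊞ B) = Curv2.euler k X A + Curv2.euler k X B := by
  haveI := isNoetherian_of_proper (X := X) k
  let S : ShortComplex X.Modules := ShortComplex.mk (biprod.inl : A ⟶ A ⊞ B) biprod.snd biprod.inl_snd
  have hS : S.ShortExact := (ShortComplex.Splitting.ofHasBinaryBiproduct A B).shortExact
  have h2 : Coh.IsCoh S.X₂ := Coherent.Existence.isCoh_biprod hA hB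
  exact euler_additive k X S hS hA h2 hB

theorem euler_union_le [IsReduced X] (hdim : topologicalKrullDim X ≤ 1) {M : X.Modules} (hM : LEOne M)
    {A B U W : Set X} {GA' GB GU GW : X.Modules} {πA : M ⟶ GA'} {πB : M ⟶ GB} {πU : M ⟶ GU} {πW : M ⟶ GW}
    (hA : TFOne.IsQuotOn X M A GA' πA) (hB : TFOne.IsQuotOn X M B GB πB)
    (hU : TFOne.IsQuotOn X M U GU πU) (hW : TFOne.IsQuotOn X M W GW πW)
    (hU' : ∀ η ∈ genericPoints X, η ∈ U ↔ η ∈ A ∨ η ∈ B) (hW' : ∀ η ∈ genericPoints X, η ∈ W ↔ η ∈ A ∧ η ∈ B) :
    Curv2.euler k X GU + Curv2.euler k X GW ≤ Curv2.euler k X GA' + Curv2.euler k X GB := by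
  haveI := isNoetherian_of_proper (X := X) k
  obtain ⟨qA, hqA, _⟩ := exists_factor hM hU hA fun η hη h => (hU' η hη).2 (Or.inl h)
  obtain ⟨qB, hqB, _⟩ := exists_factor hM hU hB fun η hη h => (hU' η hη).2 (Or.inr h)
  obtain ⟨rA, hrA, _⟩ := exists_factor hM hA hW fun η hη h => ((hW' η hη).1 h).1
  obtain ⟨rB, hrB, _⟩ := exists_factor hM hB hW fun η hη h => ((hW' η hη).1 h).2
  haveI := hU.1
  haveI := hW.1
  haveI : Epi (biprod.desc rA (-rB)) := epi_of_epi_fac (biprod.inl_desc rA (-rB))
  have hzero : biprod.lift qA qB ≫ biprod.desc rA (-rB) = 0 := by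
    rw [biprod.lift_desc, ← cancel_epi πU]
    simp [Preadditive.comp_add, reassoc_of% hqA, reassoc_of% hqB, hrA, hrB]
  have hAB : Coh.IsCoh (GA' ⊞ GB) := Coherent.Existence.isCoh_biprod hA.2.1 hB.2.1
  let K := kernel (biprod.desc rA (-rB))
  have hK : Coh.IsCoh K := isCoh_kernel _ hAB hW.2.1.1
  have hS : (ShortComplex.mk _ _ (kernel.condition (biprod.desc rA (-rB)))).ShortExact :=
    { exact := ShortComplex.exact_kernel _ }
  have hadd := euler_additive k X _ hS hK hAB hW.2.1
  dsimp only at hadd
  rw [euler_biprod k hA.2.1 hB.2.1] at hadd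
  let ℓ : GU ⟶ K := kernel.lift _ (biprod.lift qA qB) hzero
  have hℓ : ℓ ≫ kernel.ι _ = biprod.lift qA qB := kernel.lift_ι _ _ _
  haveI : Mono ℓ := by
    refine mono_of_stalks_injective ℓ fun x => (injective_iff_map_eq_zero _).2 fun g hg => ?_
    obtain ⟨m, rfl⟩ := stalk_surjective πU x g
    have h0 : (St x).map (biprod.lift qA qB) ((St x).map πU m) = 0 := by
      rw [← hℓ, map_comp_apply, hg, map_zero]
    have hA0 : (St x).map πA m = 0 := by
      rw [← hqA, map_comp_apply, show qA = biprod.lift qA qB ≫ biprod.fst by simp, map_comp_apply, h0, map_zero]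
    have hB0 : (St x).map πB m = 0 := by
      rw [← hqB, map_comp_apply, show qB = biprod.lift qA qB ≫ biprod.snd by simp, map_comp_apply, h0, map_zero]
    refine (map_eq_zero_iff hM hU m).2 fun η hη hηU hs => ?_
    rcases (hU' η hη).1 hηU with h | h
    · exact (map_eq_zero_iff hM hA m).1 hA0 η hη h hs
    · exact (map_eq_zero_iff hM hB m).1 hB0 η hη h hs
  have hsurj : ∀ η ∈ genericPoints X, ∀ z : (St η).obj K, ∃ g, (St η).map ℓ g = z := by
    intro η hη z
    let w := (St η).map (kernel.ι (biprod.desc rA (-rB))) z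
    have hw : (St η).map (biprod.desc rA (-rB)) w = 0 := by
      rw [← map_comp_apply, kernel.condition, map_zero_apply]
    let a := (St η).map biprod.fst w
    let b := (St η).map biprod.snd w
    have hab : (St η).map rA a = (St η).map rB b := by
      have h := congrArg (fun φ : GA' ⊞ GB ⟶ GW => (St η).map φ w) (biprod.desc_eq (f := rA) (g := -rB))
      dsimp only at h
      rw [hw, Functor.map_add] at h
      have h' : (0 : (St η).obj GW) =
          (St η).map (biprod.fst ≫ rA) w + (St η).map (biprod.snd ≫ (-rB)) w := h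
      rw [Preadditive.comp_neg, Functor.map_neg] at h'
      have h'' : (0 : (St η).obj GW) =
          (St η).map (biprod.fst ≫ rA) w + -((St η).map (biprod.snd ≫ rB) w) := h'
      rw [map_comp_apply, map_comp_apply] at h''
      exact eq_of_sub_eq_zero (by rw [sub_eq_add_neg]; exact h''.symm)
    obtain ⟨m, hma, hmb⟩ : ∃ m, (St η).map πA m = a ∧ (St η).map πB m = b := by
      haveI := hA.1
      haveI := hB.1
      by_cases h : η ∈ A
      · obtain ⟨m, hm⟩ := stalk_surjective πA η a
        refine ⟨m, hm, ?_⟩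
        by_cases h' : η ∈ B
        · obtain ⟨m', hm'⟩ := stalk_surjective πB η b
          have hW0 : (St η).map πW (m - m') = 0 := by
            rw [map_sub]
            conv_lhs => arg 1; rw [← hrA, map_comp_apply, hm, hab, ← hm', ← map_comp_apply, hrB]
            exact sub_self _
          rw [sub_eq_zero.1 (quot_injective_generic hM hW hη ((hW' η hη).2 ⟨h, h'⟩) hW0)]
          exact hm'
        · exact (stalk_zero_of_notMem hB h' _).trans (stalk_zero_of_notMem hB h' b).symm
      · obtain ⟨m', hm'⟩ := stalk_surjective πB η b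
        exact ⟨m', (stalk_zero_of_notMem hA h _).trans (stalk_zero_of_notMem hA h a).symm, hm'⟩
    refine ⟨(St η).map πU m, stalk_injective (kernel.ι (biprod.desc rA (-rB))) η ?_⟩
    rw [← map_comp_apply ℓ, hℓ]
    refine sub_eq_zero.1 (biprod_ext _ ?_ ?_)
    · rw [map_sub, ← map_comp_apply (biprod.lift qA qB), biprod.lift_fst, ← map_comp_apply πU, hqA, hma]
      exact sub_self _
    · rw [map_sub, ← map_comp_apply (biprod.lift qA qB), biprod.lift_snd, ← map_comp_apply πU, hqB, hmb]
      exact sub_self _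
  have hle := (euler_le_of_generic k hdim hU.2.1 hK ℓ hsurj).1
  linarith

end Groth.Agent.TF7
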