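import Groth.Agent.TF7.Modif
import Groth.Agent.TF7.Euler
import Groth.Agent.TF7.Exist
import Groth.Agent.OmegaLib.StalkLocal

/-!
# Euler characteristics of quotients of an elementary modification
-/

set_option autoImplicit false
set_option linter.style.haveILetI false
set_option backward.isDefEq.respectTransparency.types false
set_option backward.isDefEq.respectTransparency false

universe u

open CategoryTheory CategoryTheory.Limits AlgebraicGeometry Opposite TopologicalSpace
open Groth.Agent.OmegaLib Groth.Agent.Coherent Groth.Agent.EulerLib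

noncomputable section

namespace Groth.Agent.TF7

variable {X : Scheme.{u}}

local notation "St" => DerSch.stalkFunctor X

variable {M N GY : X.Modules} {π : M ⟶ GY} {Y : Set X}

namespace Seq

variable (S : Seq M N GY π) (hM : LEOne M) (hY : TFOne.IsQuotOn X M Y GY π)

include hM hY in
theorem ν_eq_zero {η : X} (hη : η ∈ genericPoints X) (hηY : η ∈ Y) (n : (St η).obj N) : (St η).map S.ν n = 0 :=
  quot_injective_generic hM hY hη hηY (by rw [← map_comp_apply, S.νπ, map_zero_apply])

include hY in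
theorem ν_injective {η : X} (hηY : η ∉ Y) {n : (St η).obj N} (hn : (St η).map S.ν n = 0) : n = 0 := by
  obtain ⟨g, rfl⟩ := S.exN η n hn
  rw [stalk_zero_of_notMem hY hηY g, map_zero]

include S hM hY in
theorem leOne : LEOne N := by
  intro η hη a b ha
  by_cases hηY : η ∈ Y
  · obtain ⟨x, rfl⟩ := S.exN η a (S.ν_eq_zero hM hY hη hηY a)
    obtain ⟨y, rfl⟩ := S.exN η b (S.ν_eq_zero hM hY hη hηY b)
    obtain ⟨c, rfl⟩ := leOne_quot hM hY η hη x y fun h => ha (by rw [h, map_zero])
    exact ⟨c, map_smul _ _ _⟩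
  · obtain ⟨c, hc⟩ := hM η hη ((St η).map S.ν a) ((St η).map S.ν b) fun h => ha (S.ν_injective hY hηY h)
    refine ⟨c, sub_eq_zero.1 (S.ν_injective hY hηY ?_)⟩
    rw [map_sub, hc]
    exact sub_eq_zero.2 (map_smul _ _ _).symm

include hM hY in
/-- Where `N` is nonzero at a generic point of `Y`, `μ` is injective. -/
theorem μ_injective {η : X} (hη : η ∈ genericPoints X) (hηY : η ∈ Y) {n₀ : (St η).obj N} (hn₀ : n₀ ≠ 0)
    {g : (St η).obj GY} (hg : (St η).map S.μ g = 0) : g = 0 := by
  by_contra hne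
  obtain ⟨g₀, rfl⟩ := S.exN η n₀ (S.ν_eq_zero hM hY hη hηY n₀)
  obtain ⟨c, rfl⟩ := leOne_quot hM hY η hη g g₀ hne
  exact hn₀ (by rw [map_smul, hg, smul_zero])

end Seq

theorem exists_ne_zero {F G : X.Modules} {Z : Set X} {p : F ⟶ G} (h : TFOne.IsQuotOn X F Z G p)
    {η : X} (hη : η ∈ Z) : ∃ n : (St η).obj F, n ≠ 0 := by
  haveI := h.1
  by_contra! hall
  have hn : η ∈ CohB1.support G := h.2.2.2 ▸ hη
  refine hn ⟨fun a b => ?_⟩
  have key : ∀ g : (St η).obj G, g = 0 := fun g => by
    obtain ⟨n, rfl⟩ := stalk_surjective p η g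
    rw [hall n, map_zero]
  exact (key a).trans (key b).symm

variable (k : Type u) [Field k] [X.Over (Spec (CommRingCat.of k))] [IsProper (X ↘ Spec (CommRingCat.of k))]
  [IsReduced X]

/-- The defect inequality for an elementary modification. -/
theorem Seq.euler_le (S : Seq M N GY π) (hdim : topologicalKrullDim X ≤ 1) (hM : LEOne M)
    (hY : TFOne.IsQuotOn X M Y GY π) {Z W U : Set X} {GZ GW GU : X.Modules} {pZ : N ⟶ GZ}
    {πW : M ⟶ GW} {πU : M ⟶ GU} (hZ : TFOne.IsQuotOn X N Z GZ pZ) (hW : TFOne.IsQuotOn X M W GW πW)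
    (hU : TFOne.IsQuotOn X M U GU πU) (hW' : ∀ η ∈ genericPoints X, η ∈ W ↔ η ∈ Y ∧ η ∈ Z)
    (hU' : ∀ η ∈ genericPoints X, η ∈ U ↔ η ∈ Y ∨ η ∈ Z) :
    Curv2.euler k X GW + Curv2.euler k X GU ≤ Curv2.euler k X GZ + Curv2.euler k X GY ∧
      (Curv2.euler k X GW + Curv2.euler k X GU = Curv2.euler k X GZ + Curv2.euler k X GY ↔
        ∀ (x : X) (n : (St x).obj N), (St x).map πU ((St x).map S.ν n) = 0 →
          ∃ g : (St x).obj GY, (St x).map pZ n = (St x).map pZ ((St x).map S.μ g)) := by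
  haveI := isNoetherian_of_proper (X := X) k
  haveI := hW.1; haveI := hU.1; haveI := hZ.1; haveI := hY.1
  have hN : LEOne N := S.leOne hM hY
  obtain ⟨a, ha⟩ : ∃ a, πW ≫ a = π ≫ S.μ ≫ pZ := exists_desc πW _ fun x m hm => by
    rw [map_comp_apply, map_comp_apply]
    refine (map_eq_zero_iff hN hZ _).2 fun η hη hηZ hs => ?_
    rw [spec_map, spec_map]
    by_cases hηY : η ∈ Y
    · rw [(map_eq_zero_iff hM hW m).1 hm η hη ((hW' η hη).2 ⟨hηY, hηZ⟩) hs, map_zero, map_zero]
    · rw [stalk_zero_of_notMem hY hηY ((St η).map π _), map_zero]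
  obtain ⟨b, hb⟩ : ∃ b, pZ ≫ b = S.ν ≫ πU := exists_desc pZ _ fun x n hn => by
    rw [map_comp_apply]
    refine (map_eq_zero_iff hM hU _).2 fun η hη hηU hs => ?_
    rw [spec_map]
    by_cases hηY : η ∈ Y
    · exact S.ν_eq_zero hM hY hη hηY _
    · rw [(map_eq_zero_iff hN hZ n).1 hn η hη (((hU' η hη).1 hηU).resolve_left hηY) hs, map_zero]
  obtain ⟨r, hr, hrE⟩ := exists_factor hM hU hY fun η hη h => (hU' η hη).2 (Or.inl h)
  haveI := hrE
  have hab : a ≫ b = 0 := by
    rw [← cancel_epi πW, ← Category.assoc, ha, Category.assoc, Category.assoc, hb, ← Category.assoc S.μ, S.μν]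
    simp
  have hbr : b ≫ r = 0 := by rw [← cancel_epi pZ, ← Category.assoc, hb, Category.assoc, hr, S.νπ, comp_zero]
  let c : GZ ⟶ kernel r := kernel.lift r b hbr
  have hc : c ≫ kernel.ι r = b := kernel.lift_ι _ _ _
  haveI : Epi c := epi_of_stalks_surjective c fun x z => by
    obtain ⟨m, hm⟩ := stalk_surjective πU x ((St x).map (kernel.ι r) z)
    obtain ⟨n, rfl⟩ := S.exM x m (by rw [← hr, map_comp_apply, hm, ← map_comp_apply, kernel.condition, map_zero_apply])
    refine ⟨(St x).map pZ n, stalk_injective (kernel.ι r) x ?_⟩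
    rw [← map_comp_apply c, hc, ← map_comp_apply pZ, hb, map_comp_apply, hm]
  have hK : Coh.IsCoh (kernel r) := isCoh_kernel _ hU.2.1 hY.2.1.1
  have hL : Coh.IsCoh (kernel c) := isCoh_kernel _ hZ.2.1 hK.1
  have hS1 : (ShortComplex.mk _ _ (kernel.condition c)).ShortExact :=
    { exact := ShortComplex.exact_kernel _ }
  have hS2 : (ShortComplex.mk _ _ (kernel.condition r)).ShortExact :=
    { exact := ShortComplex.exact_kernel _ }
  have e1 := euler_additive k X _ hS1 hL hZ.2.1 hK
  have e2 := euler_additive k X _ hS2 hK hU.2.1 hY.2.1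
  dsimp only at e1 e2
  have hac : a ≫ c = 0 := by rw [← cancel_mono (kernel.ι r), Category.assoc, hc, hab, zero_comp]
  let a' : GW ⟶ kernel c := kernel.lift c a hac
  have ha' : a' ≫ kernel.ι c = a := kernel.lift_ι _ _ _
  haveI : Mono a' := by
    haveI : Mono a := by
      refine mono_of_stalks_injective a fun x => (injective_iff_map_eq_zero _).2 fun w hw => ?_
      obtain ⟨m, rfl⟩ := stalk_surjective πW x w
      refine (map_eq_zero_iff hM hW m).2 fun η hη hηW hs => ?_
      have h0 : (St x).map pZ ((St x).map S.μ ((St x).map π m)) = 0 := by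
        rw [← map_comp_apply, ← map_comp_apply, ← ha, map_comp_apply, hw]
      have h1 := (map_eq_zero_iff hN hZ _).1 h0 η hη ((hW' η hη).1 hηW).2 hs
      rw [spec_map, spec_map] at h1
      obtain ⟨n₀, hn₀⟩ := exists_ne_zero hZ ((hW' η hη).1 hηW).2
      exact quot_injective_generic hM hY hη ((hW' η hη).1 hηW).1
        (S.μ_injective hM hY hη ((hW' η hη).1 hηW).1 hn₀ h1)
    exact mono_of_mono_fac ha'
  have key : ∀ (x : X) (z : (St x).obj (kernel c)), ∃ n, (St x).map pZ n = (St x).map (kernel.ι c) z ∧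
      (St x).map πU ((St x).map S.ν n) = 0 := by
    intro x z
    obtain ⟨n, hn⟩ := stalk_surjective pZ x ((St x).map (kernel.ι c) z)
    refine ⟨n, hn, ?_⟩
    rw [← map_comp_apply, ← hb, map_comp_apply, hn, ← hc, map_comp_apply, ← map_comp_apply (kernel.ι c),
      kernel.condition, map_zero_apply, map_zero]
  have lift : ∀ (x : X) (z : (St x).obj (kernel c)) (n : (St x).obj N) (g : (St x).obj GY),
      (St x).map pZ n = (St x).map (kernel.ι c) z → (St x).map pZ n = (St x).map pZ ((St x).map S.μ g) →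
      ∃ w, (St x).map a' w = z := by
    intro x z n g hn hg
    obtain ⟨m, rfl⟩ := stalk_surjective π x g
    refine ⟨(St x).map πW m, stalk_injective (kernel.ι c) x ?_⟩
    rw [← map_comp_apply a', ha', ← map_comp_apply, ha, map_comp_apply, map_comp_apply, ← hg, hn]
  have hgen : ∀ η ∈ genericPoints X, ∀ z : (St η).obj (kernel c), ∃ w, (St η).map a' w = z := by
    intro η hη z
    by_cases hηZ : η ∈ Z
    · obtain ⟨n, hn, hn0⟩ := key η z
      obtain ⟨g, rfl⟩ := S.exN η n (quot_injective_generic hM hU hη ((hU' η hη).2 (Or.inr hηZ)) hn0)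
      exact lift η z _ g hn rfl
    · exact ⟨0, stalk_injective (kernel.ι c) η ((stalk_zero_of_notMem hZ hηZ _).trans
        (stalk_zero_of_notMem hZ hηZ _).symm)⟩
  obtain ⟨hle, heq⟩ := euler_le_of_generic k hdim hW.2.1 hL a' hgen
  refine ⟨by linarith, (Iff.intro (fun h => by linarith) (fun h => by linarith) : _ ↔
    Curv2.euler k X GW = Curv2.euler k X (kernel c)).trans (heq.trans ?_)⟩
  refine ⟨fun h x n hn => ?_, fun h => ?_⟩
  · have h0 : (St x).map c ((St x).map pZ n) = 0 := by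
      refine stalk_injective (kernel.ι r) x ?_
      rw [← map_comp_apply c, hc, ← map_comp_apply pZ, hb, map_comp_apply, hn, map_zero]
    obtain ⟨z, hz⟩ := exists_kernel_lift c _ h0
    obtain ⟨w, rfl⟩ := stalk_surjective a' x z
    obtain ⟨m, rfl⟩ := stalk_surjective πW x w
    refine ⟨(St x).map π m, ?_⟩
    rw [← hz, ← map_comp_apply a', ha', ← map_comp_apply πW, ha, map_comp_apply, map_comp_apply]
  · haveI : Epi a' := epi_of_stalks_surjective a' fun x z => by
      obtain ⟨n, hn, hn0⟩ := key x z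
      obtain ⟨g, hg⟩ := h x n hn0
      exact lift x z n g hn hg
    exact isIso_of_mono_of_epi a'

omit [X.Over (Spec (CommRingCat.of k))] [IsProper (X ↘ Spec (CommRingCat.of k))] in
/-- The defect vanishes when `W` has no generic point. -/
theorem Seq.criterion_disjoint [IsLocallyNoetherian X] (S : Seq M N GY π) (hM : LEOne M)
    (hY : TFOne.IsQuotOn X M Y GY π) {Z U : Set X} {GZ GU : X.Modules} {pZ : N ⟶ GZ} {πU : M ⟶ GU}
    (hZ : TFOne.IsQuotOn X N Z GZ pZ) (hU : TFOne.IsQuotOn X M U GU πU)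
    (hd : ∀ η ∈ genericPoints X, η ∈ Z → η ∉ Y ∧ η ∈ U) (x : X) (n : (St x).obj N)
    (hn : (St x).map πU ((St x).map S.ν n) = 0) :
    ∃ g : (St x).obj GY, (St x).map pZ n = (St x).map pZ ((St x).map S.μ g) := by
  refine ⟨0, ?_⟩
  rw [map_zero, map_zero]
  refine (map_eq_zero_iff (S.leOne hM hY) hZ n).2 fun η hη hηZ hs => S.ν_injective hY (hd η hη hηZ).1 ?_
  rw [← spec_map]
  exact (map_eq_zero_iff hM hU _).1 hn η hη (hd η hη hηZ).2 hs

omit [X.Over (Spec (CommRingCat.of k))] [IsProper (X ↘ Spec (CommRingCat.of k))] in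
/-- The defect vanishes when `U` contains all generic points. -/
theorem Seq.criterion_univ [IsLocallyNoetherian X] (S : Seq M N GY π) (hM : LEOne M)
    (hMtf : TorSh.IsTorsionFree M) (hMq : Coh.IsQCoh M) {U : Set X} {GZ GU : X.Modules} (pZ : N ⟶ GZ)
    {πU : M ⟶ GU} (hU : TFOne.IsQuotOn X M U GU πU) (hd : ∀ η ∈ genericPoints X, η ∈ U) (x : X)
    (n : (St x).obj N) (hn : (St x).map πU ((St x).map S.ν n) = 0) :
    ∃ g : (St x).obj GY, (St x).map pZ n = (St x).map pZ ((St x).map S.μ g) := by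
  obtain ⟨g, rfl⟩ := S.exN x n (eq_zero_of_generic hMq hMtf _ fun η hη hs =>
    (map_eq_zero_iff hM hU _).1 hn η hη (hd η hη) hs)
  exact ⟨g, rfl⟩

end Groth.Agent.TF7
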