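import Groth.Agent.TF7.Quot
import Groth.Agent.OmegaLib.StalkCompat
import Groth.Agent.Thick15.OmegaPullback
import Groth.Agent.EulerLib.Scalar

/-!
# Stalks of the restriction to a principal closed subscheme
-/

set_option autoImplicit false
set_option linter.style.haveILetI false
set_option backward.isDefEq.respectTransparency.types false
set_option backward.isDefEq.respectTransparency false

universe u

open CategoryTheory CategoryTheory.Limits AlgebraicGeometry Opposite TopologicalSpace
open Groth.Agent.OmegaLib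
open scoped TensorProduct

noncomputable section

namespace Groth.Agent.TF7

/-- Kernel of `M → B ⊗ M` for a surjection `A → B` with principal kernel. -/
theorem exists_smul_of_one_tmul_eq_zero {A B : Type u} [CommRing A] [CommRing B] [Algebra A B]
    (hsurj : Function.Surjective (algebraMap A B)) {t : A} (hker : RingHom.ker (algebraMap A B) = Ideal.span {t})
    {M : Type u} [AddCommGroup M] [Module A M] (m : M) (h : (1 : B) ⊗ₜ[A] m = 0) : ∃ a : M, m = t • a := by
  let J : Ideal A := Ideal.span {t}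
  have hex : Function.Exact J.subtype (Algebra.linearMap A B) := by
    intro a
    show algebraMap A B a = 0 ↔ a ∈ Set.range J.subtype
    rw [← RingHom.mem_ker, hker]
    exact ⟨fun ha => ⟨⟨a, ha⟩, rfl⟩, by rintro ⟨⟨b, hb⟩, rfl⟩; exact hb⟩
  have h0 : (Algebra.linearMap A B).rTensor M ((1 : A) ⊗ₜ[A] m) = 0 := by simp [h]
  obtain ⟨z, hz⟩ := ((rTensor_exact M hex hsurj) _).1 h0
  have hm : m = TensorProduct.lid A M (J.subtype.rTensor M z) := by rw [hz]; simp
  subst hm
  clear h h0 hz
  induction z using TensorProduct.induction_on with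
  | zero => exact ⟨0, by simp⟩
  | tmul j a =>
    obtain ⟨c, hc⟩ := Ideal.mem_span_singleton'.1 j.2
    refine ⟨c • a, ?_⟩
    simp [← hc, mul_smul, smul_comm c t]
  | add u v hu hv =>
    obtain ⟨a, ha⟩ := hu
    obtain ⟨b, hb⟩ := hv
    exact ⟨a + b, by simp [ha, hb, smul_add]⟩

variable {Z X : Scheme.{u}} (i : Z ⟶ X)

/-- The map from a stalk to the stalk of the pullback. -/
def pbs (M : X.Modules) (y : Z) :
    (DerSch.stalkFunctor X (i y)).obj M →+ (DerSch.stalkFunctor Z y).obj ((Scheme.Modules.pullback i).obj M) where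
  toFun m :=
    letI := (i.stalkMap y).hom.toAlgebra
    ((ModStalk.pullbackStalkIso i y).app M).symm.toLinearEquiv ((1 : Z.presheaf.stalk y) ⊗ₜ m)
  map_zero' := by simp
  map_add' a b := by simp [TensorProduct.tmul_add]

theorem pbs_gm (M : X.Modules) (y : Z) (U : X.Opens) (hy : i y ∈ U) (s : Γ(M, U)) :
    pbs i M y (gm M U (i y) hy s) = gm _ (i ⁻¹ᵁ U) y hy (OmegaSh.pullSect i M U s) := by
  letI := (i.stalkMap y).hom.toAlgebra
  let E := ((ModStalk.pullbackStalkIso i y).app M).symm.toLinearEquiv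
  apply E.symm.injective
  refine (E.symm_apply_apply _).trans ?_
  exact (DCat.PullTensor.pullbackStalk_germ i y M U hy s).symm

theorem pbs_map {M N : X.Modules} (φ : M ⟶ N) (y : Z) (m : (DerSch.stalkFunctor X (i y)).obj M) :
    (DerSch.stalkFunctor Z y).map ((Scheme.Modules.pullback i).map φ) (pbs i M y m) =
      pbs i N y ((DerSch.stalkFunctor X (i y)).map φ m) := by
  obtain ⟨U, hy, s, rfl⟩ := exists_gm M m
  rw [pbs_gm, map_gm, map_gm, pbs_gm, Thick15.pullSect_naturality]

theorem pbs_surjective [IsClosedImmersion i] (M : X.Modules) (y : Z) : Function.Surjective (pbs i M y) := by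
  letI := (i.stalkMap y).hom.toAlgebra
  intro v
  let E := ((ModStalk.pullbackStalkIso i y).app M).symm.toLinearEquiv
  obtain ⟨m, hm⟩ := TensorProduct.mk_surjective (X.presheaf.stalk (i y)) ((DerSch.stalkFunctor X (i y)).obj M)
    (Z.presheaf.stalk y) (i.stalkMap_surjective y) (E.symm v)
  refine ⟨m, ?_⟩
  show E ((1 : Z.presheaf.stalk y) ⊗ₜ m) = v
  rw [← E.apply_symm_apply v]
  exact congrArg E hm

theorem pbs_eq_zero_iff [IsClosedImmersion i] {t : Γ(X, ⊤)}
    (hker : ∀ y, RingHom.ker (i.stalkMap y).hom = Ideal.span {X.presheaf.germ ⊤ (i y) trivial t})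
    (M : X.Modules) (y : Z) (m : (DerSch.stalkFunctor X (i y)).obj M) :
    pbs i M y m = 0 ↔ ∃ a : (DerSch.stalkFunctor X (i y)).obj M,
      m = X.presheaf.germ ⊤ (i y) trivial t • a := by
  letI := (i.stalkMap y).hom.toAlgebra
  let E := ((ModStalk.pullbackStalkIso i y).app M).symm.toLinearEquiv
  refine ⟨fun h => exists_smul_of_one_tmul_eq_zero (i.stalkMap_surjective y) (hker y) m
    (E.injective (h.trans (map_zero E).symm)), ?_⟩
  rintro ⟨a, rfl⟩
  show E ((1 : Z.presheaf.stalk y) ⊗ₜ (X.presheaf.germ ⊤ (i y) trivial t • a)) = 0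
  have ht : (i.stalkMap y).hom (X.presheaf.germ ⊤ (i y) trivial t) = 0 := by
    rw [← RingHom.mem_ker, hker y]; exact Ideal.mem_span_singleton_self _
  rw [← TensorProduct.smul_tmul]
  refine (congrArg (fun b => E (b ⊗ₜ a)) (?_ : _ = (0 : Z.presheaf.stalk y))).trans ?_
  · show (i.stalkMap y).hom (X.presheaf.germ ⊤ (i y) trivial t) * 1 = 0
    rw [ht, zero_mul]
  · show E (0 ⊗ₜ a) = 0
    rw [TensorProduct.zero_tmul, map_zero]

theorem map_smulMod (M : X.Modules) (r : Γ(X, ⊤)) {x : X} (v : (DerSch.stalkFunctor X x).obj M) :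
    (DerSch.stalkFunctor X x).map (EulerLib.smulMod M r) v = X.presheaf.germ ⊤ x trivial r • v := by
  obtain ⟨U, hU, m, rfl⟩ := exists_gm M v
  rw [map_gm]
  refine (congrArg (gm M U x hU) (EulerLib.smulMod_app M r U m)).trans ?_
  rw [gm_smul, TopCat.Presheaf.germ_res_apply]

/-- Two morphisms with equal stalk maps are equal. -/
theorem hom_ext_stalks {A B : X.Modules} (f g : A ⟶ B)
    (h : ∀ (x : X) (a : (DerSch.stalkFunctor X x).obj A),
      (DerSch.stalkFunctor X x).map f a = (DerSch.stalkFunctor X x).map g a) : f = g := by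
  refine sub_eq_zero.1 (VarietyLib.eq_zero_of_stalks _ fun x v => ?_)
  rw [Functor.map_sub]
  exact sub_eq_zero.2 (h x v)

theorem pullback_map_smulMod [IsClosedImmersion i] {t : Γ(X, ⊤)}
    (hker : ∀ y, RingHom.ker (i.stalkMap y).hom = Ideal.span {X.presheaf.germ ⊤ (i y) trivial t})
    (M : X.Modules) : (Scheme.Modules.pullback i).map (EulerLib.smulMod M t) = 0 := by
  refine hom_ext_stalks _ _ fun y v => ?_
  obtain ⟨m, rfl⟩ := pbs_surjective i M y v
  rw [map_zero_apply, pbs_map, map_smulMod, (pbs_eq_zero_iff i hker M y _).2 ⟨m, rfl⟩]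

end Groth.Agent.TF7
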