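import Groth.Agent.TF7.Basic
import Groth.Agent.Coherent.CohOps
import Groth.Agent.Coherent.Existence.TwoStep

/-!
# Torsion-free quotients on subcurves: kernels and comparison maps
-/

set_option autoImplicit false
set_option linter.style.haveILetI false
set_option backward.isDefEq.respectTransparency.types false

universe u

open CategoryTheory CategoryTheory.Limits AlgebraicGeometry Opposite TopologicalSpace
open Groth.Agent.OmegaLib Groth.Agent.Coherent

noncomputable section

namespace Groth.Agent.TF7

variable {X : Scheme.{u}}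

local notation "St" => DerSch.stalkFunctor X

/-- At every generic point the stalk is at most a line. -/
def LEOne (M : X.Modules) : Prop :=
  ∀ η ∈ genericPoints X, ∀ a b : (St η).obj M, a ≠ 0 → ∃ c : X.presheaf.stalk η, b = c • a

theorem leOne_of_isRkOne [IsReduced X] {M : X.Modules} (h : TFOne.IsRkOne X M) : LEOne M := by
  intro η hη a b ha
  obtain ⟨e⟩ := h η hη
  have ha' : e a ≠ 0 := fun h0 => ha (e.injective (h0.trans (map_zero e).symm))
  obtain ⟨c, hc⟩ := (isField_stalk hη).mul_inv_cancel ha'
  refine ⟨e b * c, e.injective ?_⟩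
  refine Eq.trans ?_ (map_smul e (e b * c) (show M.presheaf.stalk η from a)).symm
  show e b = (e b * c) * e a
  rw [mul_assoc, mul_comm c, hc, mul_one]

/-- Generic points in a union of components. -/
theorem mem_sUnion_components {P : Set X → Prop} {η : X} (hη : η ∈ genericPoints X) :
    η ∈ ⋃₀ {C | C ∈ irreducibleComponents X ∧ P C} ↔ P (closure {η}) := by
  refine ⟨fun ⟨C, ⟨hC, hP⟩, hηC⟩ => ?_, fun h => ⟨_, ⟨hη, h⟩, subset_closure rfl⟩⟩
  have h1 : closure ({η} : Set X) ⊆ C :=
    (isClosed_of_mem_irreducibleComponents C hC).closure_subset_iff.2 (Set.singleton_subset_iff.2 hηC)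
  rwa [h1.antisymm (hη.2 hC.1 h1)]

theorem closure_subset_iff_mem {η : X} {T : Set X} (hT : IsClosed T) : closure ({η} : Set X) ⊆ T ↔ η ∈ T :=
  ⟨fun h => h (subset_closure rfl), fun h => hT.closure_subset_iff.2 (Set.singleton_subset_iff.2 h)⟩

/-- A subcurve is determined by its generic points. -/
theorem subset_of_genericPoints {Z T : Set X} (hZ : VecSt.IsSubcurve X Z) (hT : IsClosed T)
    (h : ∀ η ∈ genericPoints X, η ∈ Z → η ∈ T) : Z ⊆ T := by
  obtain ⟨𝒮, h𝒮, -, rfl⟩ := hZ
  refine Set.sUnion_subset fun C hC => ?_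
  have hgen := (h𝒮 hC).1.isGenericPoint_genericPoint (isClosed_of_mem_irreducibleComponents C (h𝒮 hC))
  have hη : (h𝒮 hC).1.genericPoint ∈ genericPoints X := by
    show closure _ ∈ irreducibleComponents X
    rw [hgen.def]; exact h𝒮 hC
  rw [← hgen.def]
  exact (closure_subset_iff_mem hT).2 (h _ hη ⟨C, hC, hgen.mem⟩)

theorem eq_zero_of_comp_epi {A B C : X.Modules} (f : A ⟶ B) [Epi f] (g : B ⟶ C) {x : X} (b : (St x).obj B)
    (h : ∀ a, (St x).map g ((St x).map f a) = 0) : (St x).map g b = 0 := by
  haveI : Epi ((St x).map f) := inferInstance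
  obtain ⟨a, rfl⟩ := (ModuleCat.epi_iff_surjective _).1 ‹Epi ((St x).map f)› b
  exact h a

theorem stalk_surjective {A B : X.Modules} (f : A ⟶ B) [Epi f] (x : X) : Function.Surjective ((St x).map f) := by
  haveI : Epi ((St x).map f) := inferInstance
  exact (ModuleCat.epi_iff_surjective _).1 inferInstance

theorem stalk_injective {A B : X.Modules} (f : A ⟶ B) [Mono f] (x : X) : Function.Injective ((St x).map f) := by
  haveI : Mono ((St x).map f) := inferInstance
  exact (ModuleCat.mono_iff_injective _).1 inferInstance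

theorem map_comp_apply {A B C : X.Modules} (f : A ⟶ B) (g : B ⟶ C) {x : X} (a : (St x).obj A) :
    (St x).map (f ≫ g) a = (St x).map g ((St x).map f a) := by
  rw [Functor.map_comp]; rfl

theorem map_zero_apply (A B : X.Modules) {x : X} (a : (St x).obj A) : (St x).map (0 : A ⟶ B) a = 0 := by
  rw [Functor.map_zero]; rfl

/-- A morphism killing the stalkwise kernel of an epimorphism descends. -/
theorem exists_desc {A B C : X.Modules} (π : A ⟶ B) [Epi π] (f : A ⟶ C)
    (h : ∀ (x : X) (a : (St x).obj A), (St x).map π a = 0 → (St x).map f a = 0) : ∃ g : B ⟶ C, π ≫ g = f :=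
  ⟨Abelian.epiDesc π f (VarietyLib.eq_zero_of_stalks _ fun x v => by
    rw [map_comp_apply]
    exact h x _ (by rw [← map_comp_apply, kernel.condition, map_zero_apply])),
    Abelian.comp_epiDesc _ _ _⟩

/-- A stalk element of the source killed by `g` lifts to the kernel. -/
theorem exists_kernel_lift {A B : X.Modules} (g : A ⟶ B) {x : X} (a : (St x).obj A) (h : (St x).map g a = 0) :
    ∃ k : (St x).obj (kernel g), (St x).map (kernel.ι g) k = a := by
  have hS : ((ShortComplex.mk _ _ (kernel.condition g)).map (St x)).Exact :=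
    (ShortComplex.exact_kernel g).map (St x)
  exact ((ShortComplex.moduleCat_exact_iff _).1 hS) a h

section Quot

variable [IsLocallyNoetherian X] [IsReduced X] {M : X.Modules} (hM : LEOne M)
variable {Z : Set X} {G : X.Modules} {π : M ⟶ G}

omit [IsLocallyNoetherian X] [IsReduced X] in
theorem stalk_zero_of_notMem (h : TFOne.IsQuotOn X M Z G π) {x : X} (hx : x ∉ Z) (g : (St x).obj G) : g = 0 := by
  haveI : Subsingleton (G.presheaf.stalk x) := not_not.1 fun hn => hx (h.2.2.2 ▸ hn)
  exact Subsingleton.elim (α := G.presheaf.stalk x) g 0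

include hM in
omit [IsLocallyNoetherian X] [IsReduced X] in
/-- At a generic point of the support, the quotient map is injective. -/
theorem quot_injective_generic (h : TFOne.IsQuotOn X M Z G π) {η : X} (hη : η ∈ genericPoints X) (hZ : η ∈ Z)
    {m : (St η).obj M} (hm : (St η).map π m = 0) : m = 0 := by
  haveI := h.1
  by_contra hne
  have hn : η ∈ CohB1.support G := h.2.2.2 ▸ hZ
  refine hn ⟨fun g g' => ?_⟩
  have key : ∀ g : (St η).obj G, g = 0 := fun g => by
    obtain ⟨b, rfl⟩ := stalk_surjective π η g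
    obtain ⟨c, rfl⟩ := hM η hη m b hne
    rw [map_smul, hm, smul_zero]
  exact (key g).trans (key g').symm

include hM in
/-- The kernel of the quotient: sections vanishing at the generic points of the subcurve. -/
theorem map_eq_zero_iff (h : TFOne.IsQuotOn X M Z G π) {x : X} (m : (St x).obj M) :
    (St x).map π m = 0 ↔ ∀ η ∈ genericPoints X, η ∈ Z → ∀ hs : η ⤳ x, spec M hs m = 0 := by
  refine ⟨fun hm η hη hZ hs => quot_injective_generic hM h hη hZ (by rw [← spec_map, hm, spec_zero]), fun hm =>
    eq_zero_of_generic h.2.1.1 h.2.2.1 _ fun η hη hs => ?_⟩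
  rw [spec_map]
  by_cases hZ : η ∈ Z
  · rw [hm η hη hZ hs, map_zero]
  · exact stalk_zero_of_notMem h hZ _

include hM in
/-- Quotients on smaller subcurves factor through quotients on bigger ones. -/
theorem exists_factor (h : TFOne.IsQuotOn X M Z G π) {Z' : Set X} {G' : X.Modules} {π' : M ⟶ G'}
    (h' : TFOne.IsQuotOn X M Z' G' π') (hsub : ∀ η ∈ genericPoints X, η ∈ Z' → η ∈ Z) :
    ∃ q : G ⟶ G', π ≫ q = π' ∧ Epi q := by
  haveI := h.1
  obtain ⟨q, hq⟩ := exists_desc π π' fun x m hm => (map_eq_zero_iff hM h' m).2 fun η hη hZ hs =>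
    (map_eq_zero_iff hM h m).1 hm η hη (hsub η hη hZ) hs
  haveI : Epi (π ≫ q) := hq ▸ h'.1
  exact ⟨q, hq, epi_of_epi π q⟩

include hM in
omit [IsLocallyNoetherian X] [IsReduced X] in
theorem leOne_quot (h : TFOne.IsQuotOn X M Z G π) : LEOne G := by
  intro η hη a b ha
  haveI := h.1
  obtain ⟨a, rfl⟩ := stalk_surjective π η a
  obtain ⟨b, rfl⟩ := stalk_surjective π η b
  obtain ⟨c, rfl⟩ := hM η hη a b fun h0 => ha (by rw [h0, map_zero])
  exact ⟨c, map_smul _ _ _⟩

end Quot

/-- A stalk element of a biproduct is determined by its projections. -/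
theorem biprod_ext {A B : X.Modules} {x : X} (w : (St x).obj (A ⊞ B))
    (h1 : (St x).map biprod.fst w = 0) (h2 : (St x).map biprod.snd w = 0) : w = 0 := by
  have h := congrArg (fun φ : A ⊞ B ⟶ A ⊞ B => (St x).map φ w) (biprod.total (X := A) (Y := B))
  simp only [Functor.map_add, Functor.map_comp, ModuleCat.hom_add, ModuleCat.hom_comp, LinearMap.add_apply,
    LinearMap.comp_apply, CategoryTheory.Functor.map_id, ModuleCat.hom_id, LinearMap.id_apply] at h
  rw [← h]
  show ((St x).map biprod.inl) ((St x).map biprod.fst w) + ((St x).map biprod.inr) ((St x).map biprod.snd w) = 0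
  rw [h1, h2, map_zero, map_zero, add_zero]

end Groth.Agent.TF7
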