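import Groth.Prelude.Def_TFOne
import Groth.Agent.TF7.Quot
import Groth.Agent.TF7.Pull

/-!
# Scalar endomorphisms of torsion-free modules of rank one
-/

set_option autoImplicit false
set_option linter.style.haveILetI false
set_option backward.isDefEq.respectTransparency.types false
set_option backward.isDefEq.respectTransparency false

universe u

open CategoryTheory CategoryTheory.Limits AlgebraicGeometry Opposite TopologicalSpace
open Groth.Agent.OmegaLib

noncomputable section

namespace Groth.Agent.TF7

variable {X : Scheme.{u}} (k : Type u) [Field k] [X.Over (Spec (CommRingCat.of k))]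

local notation "St" => DerSch.stalkFunctor X

/-- The constants in a stalk. -/
def cst (x : X) : k →+* X.presheaf.stalk x :=
  (X.presheaf.germ ⊤ x trivial).hom.comp (Coh.toGlobal (X ↘ Spec (CommRingCat.of k)))

theorem cst_injective (x : X) : Function.Injective (cst k x) := (cst k x).injective

theorem map_scalar (M : X.Modules) (c : k) {x : X} (v : (St x).obj M) :
    (St x).map (Formal.smulMod k M c) v = cst k x c • v := by
  obtain ⟨U, hU, m, rfl⟩ := exists_gm M v
  rw [map_gm]
  show gm M U x hU ((X.presheaf.map (homOfLE (le_top : U ≤ ⊤)).op (Coh.toGlobal (X ↘ Spec (CommRingCat.of k)) c) : Γ(X, U)) • m) = _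
  rw [gm_smul]
  congr 1
  exact TopCat.Presheaf.germ_res_apply X.presheaf _ x hU _

theorem map_sub_scalar {M : X.Modules} (f : M ⟶ M) (c : k) {x : X} (v : (St x).obj M) :
    (St x).map (f - Formal.smulMod k M c) v = (St x).map f v - cst k x c • v := by
  rw [Functor.map_sub, ← map_scalar]
  rfl

variable [IsReduced X]

/-- An endomorphism descends to every torsion-free quotient on a subset. -/
theorem exists_end_desc [IsLocallyNoetherian X] {M G : X.Modules} (hM : LEOne M) {Z : Set X} {π : M ⟶ G}
    (h : TFOne.IsQuotOn X M Z G π) (f : M ⟶ M) : ∃ g : G ⟶ G, π ≫ g = f ≫ π := by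
  haveI := h.1
  refine exists_desc π _ fun x m hm => ?_
  rw [map_comp_apply]
  refine (map_eq_zero_iff hM h _).2 fun η hη hηZ hs => ?_
  rw [spec_map, (map_eq_zero_iff hM h m).1 hm η hη hηZ hs, map_zero]

/-- The scalar by which an endomorphism acts at a generic point of a simple quotient. -/
theorem end_eq_scalar_generic [IsLocallyNoetherian X] {M G : X.Modules} (hM : LEOne M) {Z : Set X} {π : M ⟶ G}
    (h : TFOne.IsQuotOn X M Z G π) (hs : TFOne.IsSimple X k (X ↘ Spec (CommRingCat.of k)) G) (f : M ⟶ M) :
    ∃ c : k, ∀ η ∈ genericPoints X, η ∈ Z → ∀ m : (St η).obj M, (St η).map f m = cst k η c • m := by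
  obtain ⟨g, hg⟩ := exists_end_desc hM h f
  obtain ⟨c, hc⟩ := hs.2 g
  refine ⟨c, fun η hη hηZ m => sub_eq_zero.1 (quot_injective_generic hM h hη hηZ ?_)⟩
  rw [map_sub, map_smul, ← map_comp_apply, ← hg, map_comp_apply, hc, sub_eq_zero]
  exact map_scalar k G c _

/-- Two constants acting equally on a nonzero element at a generic point are equal. -/
theorem cst_unique {M : X.Modules} {η : X} (hη : η ∈ genericPoints X) {m : (St η).obj M} (hm : m ≠ 0) {c d : k}
    (h : cst k η c • m = cst k η d • m) : c = d := by
  refine cst_injective k η (sub_eq_zero.1 (by_contra fun hne => hm ?_))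
  obtain ⟨b, hb⟩ := (isField_stalk hη).mul_inv_cancel hne
  rw [← one_smul (X.presheaf.stalk η) m, ← hb, mul_comm, mul_smul, sub_smul, h, sub_self, smul_zero]

end Groth.Agent.TF7
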