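import Groth.Agent.TF7.ModifBeta

/-!
# Minimal subcurves
-/

set_option autoImplicit false
set_option linter.style.haveILetI false
set_option backward.isDefEq.respectTransparency.types false
set_option backward.isDefEq.respectTransparency false

universe u

open CategoryTheory CategoryTheory.Limits AlgebraicGeometry Opposite TopologicalSpace
open Groth.Agent.OmegaLib Groth.Agent.Coherent Groth.Agent.EulerLib

noncomputable section

namespace Groth.Agent.TF7

variable {X : Scheme.{u}}

theorem isSubcurve_union {Y Z : Set X} (hY : VecSt.IsSubcurve X Y) (hZ : VecSt.IsSubcurve X Z) :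
    VecSt.IsSubcurve X (Y ∪ Z) := by
  obtain ⟨A, hA, hA', rfl⟩ := hY
  obtain ⟨B, hB, -, rfl⟩ := hZ
  exact ⟨A ∪ B, Set.union_subset hA hB, hA'.mono Set.subset_union_left, (Set.sUnion_union A B).symm⟩

theorem isSubcurve_univ {Y : Set X} (hY : VecSt.IsSubcurve X Y) : VecSt.IsSubcurve X Set.univ := by
  obtain ⟨A, hA, hA', -⟩ := hY
  exact ⟨irreducibleComponents X, le_rfl, hA'.mono hA, (sUnion_irreducibleComponents).symm⟩

theorem isSubcurve_components {P : Set X → Prop} (h : ∃ η ∈ genericPoints X,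
    η ∈ ⋃₀ {C | C ∈ irreducibleComponents (X : Type u) ∧ P C}) :
    VecSt.IsSubcurve X (⋃₀ {C | C ∈ irreducibleComponents (X : Type u) ∧ P C}) := by
  obtain ⟨η, -, C, hC, -⟩ := h
  exact ⟨_, fun C hC => hC.1, ⟨C, hC⟩, rfl⟩

variable (k : Type u) [Field k] [X.Over (Spec (CommRingCat.of k))] [IsProper (X ↘ Spec (CommRingCat.of k))]
  [IsReduced X]

local notation "St" => DerSch.stalkFunctor X
local notation "β" => TFOne.rBeta X k (X ↘ Spec (CommRingCat.of k))

include k in
theorem mono_of_univ {M G : X.Modules} (hM : TFOne.IsTF1 X M) {π : M ⟶ G}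
    (h : TFOne.IsQuotOn X M Set.univ G π) : IsIso π := by
  haveI := isNoetherian_of_proper (X := X) k
  haveI := h.1
  haveI : Mono π := mono_of_stalks_injective π fun x => (injective_iff_map_eq_zero _).2 fun m hm =>
    eq_zero_of_generic hM.1.1 hM.2.1 m fun η hη hs =>
      (map_eq_zero_iff (leOne_of_isRkOne hM.2.2) h m).1 hm η hη trivial hs
  exact isIso_of_mono_of_epi π

/-- The quotient on the whole curve. -/
theorem exists_quot_univ {M : X.Modules} (hM : TFOne.IsTF1 X M) {r : ℕ} {E : X.Modules}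
    (hE : FlatMod.IsFinLocFreeOfRank r E) :
    ∃ (G : X.Modules) (π : M ⟶ G), TFOne.IsQuotOn X M Set.univ G π ∧
      β Set.univ isClosed_univ E r G = (r : ℤ) * Curv2.euler k X M + Curv2.deg k X E r := by
  haveI := isNoetherian_of_proper (X := X) k
  obtain ⟨G, π, h⟩ := exists_quotOn hM isClosed_univ fun x _ => by
    obtain ⟨η, hη, hs⟩ := exists_genericPoint_specializes x
    exact ⟨η, hη, trivial, hs⟩
  haveI := mono_of_univ k hM h
  refine ⟨G, π, h, ?_⟩
  rw [rBeta_eq, degOn_univ k hE, euler_congr k X (asIso π)]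

/-- Semistability gives nonnegativity on every subcurve. -/
theorem rBeta_nonneg {M : X.Modules} {r : ℕ} {E : X.Modules} (hE : FlatMod.IsFinLocFreeOfRank r E)
    (hss : TFOne.IsSemistable X k (X ↘ Spec (CommRingCat.of k)) M E r)
    (h0 : (r : ℤ) * Curv2.euler k X M + Curv2.deg k X E r = 0)
    {T : Set X} (hT : IsClosed T) (hTs : VecSt.IsSubcurve X T) {G : X.Modules} {π : M ⟶ G}
    (h : TFOne.IsQuotOn X M T G π) : 0 ≤ β T hT E r G := by
  by_cases hu : T = Set.univ
  · subst hu
    haveI := mono_of_univ k hss.1 h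
    rw [rBeta_eq, degOn_univ k hE, ← euler_congr k X (asIso π), h0]
  · exact hss.2 T hT hTs hu G π h

include k in
theorem exists_quot_subcurve {M : X.Modules} (hM : TFOne.IsTF1 X M) {T : Set X} (hT : IsClosed T)
    (hTs : VecSt.IsSubcurve X T) : ∃ (G : X.Modules) (π : M ⟶ G), TFOne.IsQuotOn X M T G π := by
  haveI := isNoetherian_of_proper (X := X) k
  refine exists_quotOn hM hT fun x hx => ?_
  obtain ⟨A, hA, -, rfl⟩ := hTs
  obtain ⟨C, hC, hxC⟩ := hx
  have hgen := (hA hC).1.isGenericPoint_genericPoint (isClosed_of_mem_irreducibleComponents C (hA hC))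
  refine ⟨(hA hC).1.genericPoint, ?_, ⟨C, hC, hgen.mem⟩, hgen.specializes hxC⟩
  show closure _ ∈ irreducibleComponents X
  rw [hgen.def]; exact hA hC

end Groth.Agent.TF7
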