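import Groth.Agent.TF7.EndScalar
import Groth.Agent.TF7.ModifMin

/-!
# Simple means indecomposable
-/

set_option autoImplicit false
set_option linter.style.haveILetI false
set_option linter.unusedSectionVars false
set_option backward.isDefEq.respectTransparency.types false
set_option backward.isDefEq.respectTransparency false

universe u

open CategoryTheory CategoryTheory.Limits AlgebraicGeometry Opposite TopologicalSpace
open Groth.Agent.OmegaLib

noncomputable section

namespace Groth.Agent.TF7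

variable {X : Scheme.{u}} (k : Type u) [Field k] [X.Over (Spec (CommRingCat.of k))]
  [IsProper (X ↘ Spec (CommRingCat.of k))] [IsReduced X]

local notation "St" => DerSch.stalkFunctor X

include k in
theorem hom_eq_zero_of_generic {A B : X.Modules} (hB : Coh.IsCoh B) (hBt : TorSh.IsTorsionFree B) (φ : A ⟶ B)
    (h : ∀ η ∈ genericPoints X, ∀ a : (St η).obj A, (St η).map φ a = 0) : φ = 0 := by
  haveI := EulerLib.isNoetherian_of_proper (X := X) k
  refine VarietyLib.eq_zero_of_stalks _ fun x v => eq_zero_of_generic hB.1 hBt _ fun η hη hs => ?_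
  rw [spec_map]
  exact h η hη _

theorem exists_scalars {M : X.Modules} (hM : TFOne.IsTF1 X M)
    (hgi : ∀ (C : Set X) (hC : C ∈ irreducibleComponents (X : Type u)), GeometricallyIntegral
      (VecSt.subschι X C (isClosed_of_mem_irreducibleComponents C hC) ≫ (X ↘ Spec (CommRingCat.of k))))
    (f : M ⟶ M) : ∃ c : X → k, ∀ η ∈ genericPoints X, ∀ m : (St η).obj M, (St η).map f m = cst k η (c η) • m := by
  suffices h : ∀ η : X, ∃ c : k, η ∈ genericPoints X → ∀ m : (St η).obj M, (St η).map f m = cst k η c • m by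
    choose c hc using h
    exact ⟨c, hc⟩
  intro η
  by_cases hη : η ∈ genericPoints X
  · obtain ⟨e⟩ := hM.2.2 η hη
    obtain ⟨lam, hlam, hf⟩ := exists_algebraic_scalar k hM.1 e f
    obtain ⟨c, rfl⟩ := algebraic_mem_range k (C := closure ({η} : Set X)) hη isClosed_closure
      (hgi _ hη) hη (subset_closure rfl) lam hlam
    exact ⟨c, fun _ => hf⟩
  · exact ⟨0, fun h => absurd h hη⟩

theorem exists_indicator {M : X.Modules} (f : M ⟶ M) (c : X → k)
    (hc : ∀ η ∈ genericPoints X, ∀ m : (St η).obj M, (St η).map f m = cst k η (c η) • m) (a : k) (s : Finset k)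
    (ha : a ∉ s) : ∃ e : M ⟶ M, ∀ η ∈ genericPoints X, ∀ m : (St η).obj M,
      (c η = a → (St η).map e m = m) ∧ (c η ∈ s → (St η).map e m = 0) := by
  classical
  induction s using Finset.induction with
  | empty =>
    refine ⟨𝟙 M, fun η _ m => ⟨fun _ => ?_, fun h => absurd h (Finset.notMem_empty _)⟩⟩
    rw [CategoryTheory.Functor.map_id]; rfl
  | insert b s hb ih =>
    rw [Finset.mem_insert, not_or] at ha
    obtain ⟨e, he⟩ := ih ha.2
    refine ⟨e ≫ (f - Formal.smulMod k M b) ≫ Formal.smulMod k M (a - b)⁻¹, fun η hη m => ?_⟩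
    have key : (St η).map (e ≫ (f - Formal.smulMod k M b) ≫ Formal.smulMod k M (a - b)⁻¹) m =
        cst k η ((a - b)⁻¹ * (c η - b)) • (St η).map e m := by
      rw [map_comp_apply, map_comp_apply, map_sub_scalar, map_scalar, hc η hη, ← sub_smul, ← map_sub, smul_smul,
        ← map_mul]
    rw [key]
    refine ⟨fun h => ?_, fun h => ?_⟩
    · rw [(he η hη m).1 h, h, inv_mul_cancel₀ (sub_ne_zero.2 ha.1), map_one, one_smul]
    · rcases Finset.mem_insert.1 h with h | h
      · rw [h, sub_self, mul_zero, map_zero, zero_smul]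
      · rw [(he η hη m).2 h, smul_zero]

theorem closure_eq_iff {η η' : X} (hη : η ∈ genericPoints X) :
    closure ({η'} : Set X) = closure {η} ↔ η' = η :=
  ⟨fun h => eq_of_specializes_generic hη (specializes_iff_closure_subset.2 h.ge), fun h => h ▸ rfl⟩

theorem isSimple_iff_indecomposable
    (hgi : ∀ (C : Set X) (hC : C ∈ irreducibleComponents (X : Type u)), GeometricallyIntegral
      (VecSt.subschι X C (isClosed_of_mem_irreducibleComponents C hC) ≫ (X ↘ Spec (CommRingCat.of k))))
    [Nonempty X] {I : X.Modules} (hI : TFOne.IsTF1 X I) :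
    TFOne.IsSimple X k (X ↘ Spec (CommRingCat.of k)) I ↔ ¬ ∃ (Y Z : Set X) (hY : IsClosed Y) (hZ : IsClosed Z)
      (GY GZ : X.Modules) (πY : I ⟶ GY) (πZ : I ⟶ GZ), VecSt.IsSubcurve X Y ∧ VecSt.IsSubcurve X Z ∧
      Y ≠ Set.univ ∧ Z ≠ Set.univ ∧ TFOne.IsQuotOn X I Y GY πY ∧ TFOne.IsQuotOn X I Z GZ πZ ∧
      IsIso (biprod.lift πY πZ) := by
  classical
  haveI := EulerLib.isNoetherian_of_proper (X := X) k
  have hM := leOne_of_isRkOne hI.2.2
  have hne : ∀ η ∈ genericPoints X, ∃ m : (St η).obj I, m ≠ 0 := fun η hη => by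
    obtain ⟨e⟩ := hI.2.2 η hη
    haveI : Nontrivial ((St η).obj I) := show Nontrivial (I.presheaf.stalk η) from e.toEquiv.nontrivial
    exact exists_ne 0
  constructor
  · rintro hs ⟨Y, Z, hY, hZ, GY, GZ, πY, πZ, hYs, hZs, hYu, -, hGY, hGZ, hiso⟩
    haveI := hiso; haveI := hGY.1
    let g : I ⟶ I := πY ≫ biprod.inl ≫ inv (biprod.lift πY πZ)
    have hg : g ≫ πY = πY := by
      have h : inv (biprod.lift πY πZ) ≫ πY = biprod.fst := (IsIso.inv_comp_eq _).2 (biprod.lift_fst _ _).symm
      simp only [g, Category.assoc, h, biprod.inl_fst, Category.comp_id]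
    obtain ⟨c, hc⟩ := hs.2 g
    obtain ⟨η, hη, hηY⟩ : ∃ η ∈ genericPoints X, η ∉ Y := by
      by_contra! hall
      exact hYu (Set.eq_univ_of_univ_subset
        (subset_of_genericPoints (isSubcurve_univ hYs) hY fun η hη _ => hall η hη))
    obtain ⟨m, hm⟩ := hne η hη
    have h0 : (St η).map g m = 0 := by
      simp only [g]
      rw [map_comp_apply, stalk_zero_of_notMem hGY hηY ((St η).map πY m), map_zero]
    obtain rfl : c = 0 := cst_unique k hη hm (by rw [← map_scalar, ← hc, h0, map_zero, zero_smul])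
    obtain ⟨A, hA, ⟨C, hC⟩, rfl⟩ := hYs
    have hgen := (hA hC).1.isGenericPoint_genericPoint (isClosed_of_mem_irreducibleComponents C (hA hC))
    obtain ⟨n, hn⟩ := exists_ne_zero hGY (η := (hA hC).1.genericPoint) ⟨C, hC, hgen.mem⟩
    have hξ : (hA hC).1.genericPoint ∈ genericPoints X := by
      show closure _ ∈ irreducibleComponents X
      rw [hgen.def]; exact hA hC
    refine hn (quot_injective_generic hM hGY hξ ⟨C, hC, hgen.mem⟩ ?_)
    rw [← hg, map_comp_apply, hc, map_scalar, map_zero, zero_smul, map_zero]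
  · intro hno
    refine ⟨fun hz => ?_, fun f => ?_⟩
    · obtain ⟨η, hη, -⟩ := exists_genericPoint_specializes (Classical.arbitrary X)
      obtain ⟨m, hm⟩ := hne η hη
      haveI := (St η).map_isZero hz |> ModuleCat.isZero_iff_subsingleton.1
      exact hm (Subsingleton.elim _ _)
    obtain ⟨c, hc⟩ := exists_scalars k hI hgi f
    obtain ⟨η₀, hη₀, -⟩ := exists_genericPoint_specializes (Classical.arbitrary X)
    by_cases hall : ∀ η ∈ genericPoints X, c η = c η₀
    · refine ⟨c η₀, sub_eq_zero.1 (hom_eq_zero_of_generic k hI.1 hI.2.1 _ fun η hη m => ?_)⟩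
      rw [map_sub_scalar, hc η hη, hall η hη, sub_self]
    push_neg at hall
    obtain ⟨η₁, hη₁, hne₁⟩ := hall
    let S := (genericPoints_finite (X := X)).toFinset.image c
    obtain ⟨e, he⟩ := exists_indicator k f c hc (c η₀) (S.erase (c η₀)) (Finset.notMem_erase _ _)
    have he0 : ∀ η ∈ genericPoints X, c η ≠ c η₀ → ∀ m : (St η).obj I, (St η).map e m = 0 := fun η hη h m =>
      (he η hη m).2 (Finset.mem_erase.2 ⟨h, Finset.mem_image.2 ⟨η, (Set.Finite.mem_toFinset _).2 hη, rfl⟩⟩)
    obtain ⟨hY, GY, πY, hGY⟩ := exists_quot_components k hI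
      (fun C => ∀ η ∈ genericPoints X, closure ({η} : Set X) = C → c η = c η₀)
    obtain ⟨hZ, GZ, πZ, hGZ⟩ := exists_quot_components k hI
      (fun C => ∀ η ∈ genericPoints X, closure ({η} : Set X) = C → c η ≠ c η₀)
    refine absurd ?_ hno
    have mY : ∀ η ∈ genericPoints X, η ∈ ⋃₀ {C | C ∈ irreducibleComponents (X : Type u) ∧
        ∀ η ∈ genericPoints X, closure ({η} : Set X) = C → c η = c η₀} ↔ c η = c η₀ := fun η hη => by
      rw [mem_sUnion_components hη]
      exact ⟨fun h => h η hη rfl, fun h η' _ he' => ((closure_eq_iff hη).1 he').symm ▸ h⟩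
    have mZ : ∀ η ∈ genericPoints X, η ∈ ⋃₀ {C | C ∈ irreducibleComponents (X : Type u) ∧
        ∀ η ∈ genericPoints X, closure ({η} : Set X) = C → c η ≠ c η₀} ↔ c η ≠ c η₀ := fun η hη => by
      rw [mem_sUnion_components hη]
      exact ⟨fun h => h η hη rfl, fun h η' _ he' => ((closure_eq_iff hη).1 he').symm ▸ h⟩
    haveI := hGY.1; haveI := hGZ.1
    have hdY : ∀ (x : X) (m : (St x).obj I), (St x).map πY m = 0 → (St x).map e m = 0 := fun x m hm =>
      eq_zero_of_generic hI.1.1 hI.2.1 _ fun η hη hs => by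
        rw [spec_map]
        by_cases h : c η = c η₀
        · rw [(map_eq_zero_iff hM hGY m).1 hm η hη ((mY η hη).2 h) hs, map_zero]
        · exact he0 η hη h _
    have hdZ : ∀ (x : X) (m : (St x).obj I), (St x).map πZ m = 0 → (St x).map (𝟙 I - e) m = 0 := fun x m hm =>
      eq_zero_of_generic hI.1.1 hI.2.1 _ fun η hη hs => by
        rw [spec_map]
        by_cases h : c η = c η₀
        · rw [Functor.map_sub, CategoryTheory.Functor.map_id]
          exact sub_eq_zero.2 (((he η hη _).1 h).symm)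
        · rw [(map_eq_zero_iff hM hGZ m).1 hm η hη ((mZ η hη).2 h) hs, map_zero]
    obtain ⟨eY, heY⟩ := exists_desc πY e hdY
    obtain ⟨eZ, heZ⟩ := exists_desc πZ (𝟙 I - e) hdZ
    have eqY : e ≫ πY = πY := sub_eq_zero.1 (hom_eq_zero_of_generic k hGY.2.1 hGY.2.2.1 _ fun η hη m => by
      rw [Functor.map_sub]
      refine sub_eq_zero.2 ?_
      rw [map_comp_apply]
      by_cases h : c η = c η₀
      · rw [(he η hη m).1 h]
      · exact (stalk_zero_of_notMem hGY (fun h' => h ((mY η hη).1 h')) _).trans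
          (stalk_zero_of_notMem hGY (fun h' => h ((mY η hη).1 h')) _).symm)
    have eqZ : e ≫ πZ = 0 := hom_eq_zero_of_generic k hGZ.2.1 hGZ.2.2.1 _ fun η hη m => by
      rw [map_comp_apply]
      by_cases h : c η = c η₀
      · exact stalk_zero_of_notMem hGZ (fun h' => (mZ η hη).1 h' h) _
      · rw [he0 η hη h, map_zero]
    have hne' : ∀ {P : Set X → Prop} (η : X), η ∈ genericPoints X →
        η ∉ ⋃₀ {C | C ∈ irreducibleComponents (X : Type u) ∧ P C} →
        ⋃₀ {C | C ∈ irreducibleComponents (X : Type u) ∧ P C} ≠ Set.univ := fun η _ h hu => h (hu ▸ trivial)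
    refine ⟨_, _, hY, hZ, GY, GZ, πY, πZ, isSubcurve_components ⟨η₀, hη₀, (mY η₀ hη₀).2 rfl⟩,
      isSubcurve_components ⟨η₁, hη₁, (mZ η₁ hη₁).2 hne₁⟩,
      hne' η₁ hη₁ (fun h => hne₁ ((mY η₁ hη₁).1 h)), hne' η₀ hη₀ (fun h => (mZ η₀ hη₀).1 h rfl), hGY, hGZ,
      biprod.desc eY eZ, ?_, ?_⟩
    · rw [biprod.lift_desc, heY, heZ, add_sub_cancel]
    · refine biprod.hom_ext' _ _ (biprod.hom_ext _ _ ?_ ?_) (biprod.hom_ext _ _ ?_ ?_) <;>
        simp only [Category.assoc, biprod.inl_desc_assoc, biprod.inr_desc_assoc, biprod.lift_fst, biprod.lift_snd,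
          biprod.inl_fst, biprod.inl_snd, biprod.inr_fst, biprod.inr_snd, Category.comp_id]
      · rw [← cancel_epi πY, ← Category.assoc, heY, eqY, Category.comp_id]
      · rw [← cancel_epi πY, ← Category.assoc, heY, eqZ, comp_zero]
      · rw [← cancel_epi πZ, ← Category.assoc, heZ, Preadditive.sub_comp, Category.id_comp, eqY, sub_self, comp_zero]
      · rw [← cancel_epi πZ, ← Category.assoc, heZ, Preadditive.sub_comp, Category.id_comp, eqZ, sub_zero,
          Category.comp_id]

end Groth.Agent.TF7
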