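import Groth.Agent.TF7.PushSimple
import Groth.Agent.EulerLib.Additive

/-!
# Extensions of simple modules on complementary subcurves
-/

set_option autoImplicit false
set_option linter.style.haveILetI false
set_option backward.isDefEq.respectTransparency.types false
set_option backward.isDefEq.respectTransparency false

universe u

open CategoryTheory CategoryTheory.Limits AlgebraicGeometry Opposite TopologicalSpace
open Groth.Agent.OmegaLib

noncomputable section

namespace Groth.Agent.TF7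

variable {X : Scheme.{u}}

local notation "St" => DerSch.stalkFunctor X

theorem generic_image {T : Set X} (hT : VecSt.IsSubcurve X T) {Z : Scheme.{u}} (i : Z ⟶ X) [IsClosedImmersion i]
    (hr : Set.range i = T) {y : Z} (hy : y ∈ genericPoints Z) : i y ∈ genericPoints X := by
  obtain ⟨A, hA, -, rfl⟩ := hT
  obtain ⟨C, hC, hyC⟩ : i y ∈ ⋃₀ A := hr ▸ ⟨y, rfl⟩
  have hgen := (hA hC).1.isGenericPoint_genericPoint (isClosed_of_mem_irreducibleComponents C (hA hC))
  have hη : (hA hC).1.genericPoint ∈ genericPoints X := by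
    show closure _ ∈ irreducibleComponents X
    rw [hgen.def]; exact hA hC
  obtain ⟨y', hy'⟩ : (hA hC).1.genericPoint ∈ Set.range i := hr.symm ▸ ⟨C, hC, hgen.mem⟩
  have hs : y' ⤳ y := i.isClosedEmbedding.isInducing.specializes_iff.1 (hy' ▸ hgen.specializes hyC)
  have e := eq_of_specializes_generic hy hs
  subst e
  rwa [hy']

variable (k : Type u) [Field k] [X.Over (Spec (CommRingCat.of k))]

theorem scalar_comp {A B : X.Modules} (φ : A ⟶ B) (c : k) :
    Formal.smulMod k A c ≫ φ = φ ≫ Formal.smulMod k B c := by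
  refine hom_ext_stalks _ _ fun x v => ?_
  rw [map_comp_apply, map_comp_apply, map_scalar, map_scalar, map_smul]

theorem isSimple_iff_not_split [IsProper (X ↘ Spec (CommRingCat.of k))] [IsReduced X] {Y Z : Set X}
    (hY : IsClosed Y) (hZ : IsClosed Z) (hYs : VecSt.IsSubcurve X Y) (hZs : VecSt.IsSubcurve X Z)
    {M : X.Modules} (hM : TFOne.IsTF1 X M) {I : (VecSt.subsch X Y hY).Modules}
    (hI : TFOne.IsTF1 (VecSt.subsch X Y hY) I)
    (hIs : TFOne.IsSimple (VecSt.subsch X Y hY) k (VecSt.subschι X Y hY ≫ (X ↘ Spec (CommRingCat.of k))) I)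
    {J : (VecSt.subsch X Z hZ).Modules} (hJ : TFOne.IsTF1 (VecSt.subsch X Z hZ) J)
    (hJs : TFOne.IsSimple (VecSt.subsch X Z hZ) k (VecSt.subschι X Z hZ ≫ (X ↘ Spec (CommRingCat.of k))) J)
    {a : (Coh.push (VecSt.subschι X Y hY)).obj I ⟶ M} {b : M ⟶ (Coh.push (VecSt.subschι X Z hZ)).obj J}
    {w : a ≫ b = 0} (hex : (ShortComplex.mk a b w).ShortExact) :
    TFOne.IsSimple X k (X ↘ Spec (CommRingCat.of k)) M ↔ ¬ IsSplitEpi b := by
  haveI := EulerLib.isNoetherian_of_proper (X := X) k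
  haveI : IsLocallyNoetherian (VecSt.subsch X Y hY) :=
    LocallyOfFiniteType.isLocallyNoetherian (VecSt.subschι X Y hY)
  haveI : IsLocallyNoetherian (VecSt.subsch X Z hZ) :=
    LocallyOfFiniteType.isLocallyNoetherian (VecSt.subschι X Z hZ)
  haveI := isReduced_subsch Y hY
  haveI := isReduced_subsch Z hZ
  haveI : Mono a := hex.mono_f
  haveI : Epi b := hex.epi_g
  have rY := range_subschι Y hY
  have rZ := range_subschι Z hZ
  have hdisj : ∀ η ∈ genericPoints X, η ∈ Y → η ∈ Z → False := by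
    intro η hη hηY hηZ
    obtain ⟨u, hu⟩ := push_ne_zero (VecSt.subschι X Y hY) hI.2.2 hη (rY.symm ▸ hηY)
    obtain ⟨w', hw'⟩ := push_ne_zero (VecSt.subschι X Z hZ) hJ.2.2 hη (rZ.symm ▸ hηZ)
    obtain ⟨v, rfl⟩ := stalk_surjective b η w'
    obtain ⟨c, rfl⟩ := leOne_of_isRkOne hM.2.2 η hη ((St η).map a u) v fun h0 =>
      hu (stalk_injective a η (h0.trans (map_zero _).symm))
    refine hw' ?_
    rw [map_smul, ← map_comp_apply, w, map_zero_apply, smul_zero]
  obtain ⟨ηY, hηY, hηY'⟩ : ∃ η ∈ genericPoints X, η ∈ Y := by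
    obtain ⟨A, hA, ⟨C, hC⟩, rfl⟩ := hYs
    have hgen := (hA hC).1.isGenericPoint_genericPoint (isClosed_of_mem_irreducibleComponents C (hA hC))
    refine ⟨(hA hC).1.genericPoint, ?_, C, hC, hgen.mem⟩
    show closure _ ∈ irreducibleComponents X
    rw [hgen.def]; exact hA hC
  obtain ⟨ηZ, hηZ, hηZ'⟩ : ∃ η ∈ genericPoints X, η ∈ Z := by
    obtain ⟨A, hA, ⟨C, hC⟩, rfl⟩ := hZs
    have hgen := (hA hC).1.isGenericPoint_genericPoint (isClosed_of_mem_irreducibleComponents C (hA hC))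
    refine ⟨(hA hC).1.genericPoint, ?_, C, hC, hgen.mem⟩
    show closure _ ∈ irreducibleComponents X
    rw [hgen.def]; exact hA hC
  obtain ⟨u₀, hu₀⟩ := push_ne_zero (VecSt.subschι X Y hY) hI.2.2 hηY (rY.symm ▸ hηY')
  obtain ⟨w₀, hw₀⟩ := push_ne_zero (VecSt.subschι X Z hZ) hJ.2.2 hηZ (rZ.symm ▸ hηZ')
  have hau : (St ηY).map a u₀ ≠ 0 := fun h0 => hu₀ (stalk_injective a ηY (h0.trans (map_zero _).symm))
  constructor
  · rintro hs ⟨⟨s, hsb⟩⟩
    obtain ⟨c, hc⟩ := hs.2 (b ≫ s)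
    have h1 : cst k ηZ c • (St ηZ).map s w₀ = (St ηZ).map s w₀ := by
      rw [← map_scalar, ← hc, ← map_comp_apply, ← Category.assoc, hsb, Category.id_comp]
    have hsw : (St ηZ).map s w₀ ≠ 0 := fun h0 => hw₀ (by
      have h := congrArg (fun φ => (St ηZ).map φ w₀) hsb
      dsimp only at h
      rw [map_comp_apply, h0, map_zero, CategoryTheory.Functor.map_id] at h
      exact h.symm)
    obtain rfl : c = 1 := cst_unique k hηZ hsw (h1.trans (by rw [map_one, one_smul]))
    refine hau ?_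
    have h2 := congrArg (fun φ => (St ηY).map φ ((St ηY).map a u₀)) hc
    dsimp only at h2
    rw [← map_comp_apply, ← Category.assoc, w, zero_comp, map_zero_apply, map_scalar, map_one, one_smul] at h2
    exact h2.symm
  · intro hns
    refine ⟨fun hz => hau ?_, fun f => ?_⟩
    · haveI := (St ηY).map_isZero hz |> ModuleCat.isZero_iff_subsingleton.1
      exact Subsingleton.elim _ _
    have hzA : ∀ y ∈ genericPoints (VecSt.subsch X Z hZ),
        ∀ v : (St (VecSt.subschι X Z hZ y)).obj ((Coh.push (VecSt.subschι X Y hY)).obj I), v = 0 := fun y hy v =>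
      push_stalk_zero _ I (fun h => hdisj _ (generic_image hZs _ rZ hy) (rY.le h) (rZ.le ⟨y, rfl⟩)) v
    have hzB : ∀ y ∈ genericPoints (VecSt.subsch X Y hY),
        ∀ v : (St (VecSt.subschι X Y hY y)).obj ((Coh.push (VecSt.subschι X Z hZ)).obj J), v = 0 := fun y hy v =>
      push_stalk_zero _ J (fun h => hdisj _ (generic_image hYs _ rY hy) (rY.le ⟨y, rfl⟩) (rZ.le h)) v
    have h0 : a ≫ f ≫ b = 0 := hom_push_eq_zero _ hJ.1.1 hJ.2.1 _ hzA
    obtain ⟨f₁, hf₁⟩ : ∃ f₁, f₁ ≫ a = a ≫ f :=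
      ⟨hex.exact.lift (a ≫ f) (by rw [Category.assoc]; exact h0), hex.exact.lift_f _ _⟩
    obtain ⟨f₂, hf₂⟩ : ∃ f₂, b ≫ f₂ = f ≫ b :=
      ⟨hex.exact.desc (f ≫ b) h0, hex.exact.g_desc _ _⟩
    obtain ⟨cA, rfl⟩ := end_push_scalar (VecSt.subschι X Y hY) k hIs f₁
    obtain ⟨cB, rfl⟩ := end_push_scalar (VecSt.subschι X Z hZ) k hJs f₂
    have hg : a ≫ (f - Formal.smulMod k M cA) = 0 := by
      rw [Preadditive.comp_sub, ← scalar_comp, hf₁, sub_self]
    obtain ⟨h, hh⟩ : ∃ h, b ≫ h = f - Formal.smulMod k M cA :=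
      ⟨hex.exact.desc _ hg, hex.exact.g_desc _ _⟩
    have hhb : h ≫ b = Formal.smulMod k _ cB - Formal.smulMod k _ cA := by
      rw [← cancel_epi b, ← Category.assoc, hh, Preadditive.sub_comp, Preadditive.comp_sub, ← hf₂, scalar_comp]
    have hcc : cA = cB := by
      by_contra hne
      refine hns ⟨⟨h ≫ Formal.smulMod k M (cB - cA)⁻¹, ?_⟩⟩
      rw [Category.assoc, scalar_comp, ← Category.assoc, hhb]
      refine hom_ext_stalks _ _ fun x v => ?_
      rw [map_comp_apply, map_scalar, Functor.map_sub, CategoryTheory.Functor.map_id]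
      show cst k x (cB - cA)⁻¹ • ((St x).map (Formal.smulMod k _ cB) v - (St x).map (Formal.smulMod k _ cA) v) = v
      rw [map_scalar, map_scalar, ← sub_smul, ← map_sub, smul_smul, ← map_mul,
        inv_mul_cancel₀ (sub_ne_zero.2 (Ne.symm hne)), map_one, one_smul]
    subst hcc
    rw [sub_self] at hhb
    refine ⟨cA, sub_eq_zero.1 ?_⟩
    rw [← hh, ← hex.exact.lift_f h hhb]
    show b ≫ hex.exact.lift h hhb ≫ a = 0
    rw [hom_push_eq_zero _ hI.1.1 hI.2.1 (hex.exact.lift h hhb) hzB]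
    simp

end Groth.Agent.TF7
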