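import Groth.Agent.TF7.ModifIneq
import Groth.Agent.TF7.Deg
import Groth.Agent.GrassLib.MapOfEpi

/-!
# `β` of an elementary modification
-/

set_option autoImplicit false
set_option linter.style.haveILetI false
set_option backward.isDefEq.respectTransparency.types false
set_option backward.isDefEq.respectTransparency false

universe u

open CategoryTheory CategoryTheory.Limits AlgebraicGeometry Opposite TopologicalSpace
open Groth.Agent.OmegaLib Groth.Agent.Coherent Groth.Agent.EulerLib

noncomputable section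

namespace Groth.Agent.TF7

theorem setup {R : Type u} [CommRing R] [IsDomain R] [IsDiscreteValuationRing R] {X : Scheme.{u}}
    (f : X ⟶ Spec (CommRingCat.of R)) [IsProper f] {Xs : Scheme.{u}}
    [Xs.Over (Spec (CommRingCat.of (IsLocalRing.ResidueField R)))] (i : Xs ⟶ X)
    (hsq : IsPullback i (Xs ↘ Spec (CommRingCat.of (IsLocalRing.ResidueField R))) f
      (Spec.map (CommRingCat.ofHom (IsLocalRing.residue R))))
    (I : X.Modules) {G : Xs.Modules} (π : (Scheme.Modules.pullback i).obj I ⟶ G) [Epi π] {IY : X.Modules}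
    (hIY : IY = kernel ((Scheme.Modules.pullbackPushforwardAdjunction i).unit.app I ≫
      (Scheme.Modules.pushforward i).map π)) :
    IsProper (Xs ↘ Spec (CommRingCat.of (IsLocalRing.ResidueField R))) ∧
      Nonempty (Seq ((Scheme.Modules.pullback i).obj I) ((Scheme.Modules.pullback i).obj IY) G π) := by
  obtain ⟨hi, ϖ, _, hker⟩ := exists_uniformizer f i hsq
  haveI := hi
  exact ⟨MorphismProperty.of_isPullback hsq inferInstance, (exists_seq i hker I π hIY).nonempty⟩

section

variable {X : Scheme.{u}} (k : Type u) [Field k] [X.Over (Spec (CommRingCat.of k))]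
  [IsProper (X ↘ Spec (CommRingCat.of k))]

local notation "St" => DerSch.stalkFunctor X

include k in
theorem exists_quot_components [IsReduced X] {M : X.Modules} (hM : TFOne.IsTF1 X M) (P : Set X → Prop) :
    IsClosed (⋃₀ {C | C ∈ irreducibleComponents (X : Type u) ∧ P C}) ∧
      ∃ (G : X.Modules) (π : M ⟶ G),
        TFOne.IsQuotOn X M (⋃₀ {C | C ∈ irreducibleComponents (X : Type u) ∧ P C}) G π := by
  haveI := isNoetherian_of_proper (X := X) k
  have hfin : {C | C ∈ irreducibleComponents (X : Type u) ∧ P C}.Finite :=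
    NoetherianSpace.finite_irreducibleComponents.subset fun C hC => hC.1
  have hcl : IsClosed (⋃₀ {C | C ∈ irreducibleComponents (X : Type u) ∧ P C}) := by
    rw [Set.sUnion_eq_biUnion]
    exact hfin.isClosed_biUnion fun C hC => isClosed_of_mem_irreducibleComponents C hC.1
  refine ⟨hcl, exists_quotOn hM hcl ?_⟩
  rintro x ⟨C, hC, hx⟩
  have hgen := hC.1.1.isGenericPoint_genericPoint (isClosed_of_mem_irreducibleComponents C hC.1)
  refine ⟨hC.1.1.genericPoint, ?_, ⟨C, hC, hgen.mem⟩, hgen.specializes hx⟩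
  show closure _ ∈ irreducibleComponents X
  rw [hgen.def]; exact hC.1

/-- A quotient on a set without generic points has `χ = 0`. -/
theorem euler_noGeneric [IsReduced X] {M G : X.Modules} {T : Set X} {π : M ⟶ G} (h : TFOne.IsQuotOn X M T G π)
    (hT : ∀ η ∈ genericPoints X, η ∉ T) : Curv2.euler k X G = 0 := by
  haveI := isNoetherian_of_proper (X := X) k
  have hz : ∀ (x : X) (g : (St x).obj G), g = 0 := fun x g =>
    eq_zero_of_generic h.2.1.1 h.2.2.1 g fun η hη hs => stalk_zero_of_notMem h (hT η hη) _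
  have hZ : IsZero G := ModStalk.isZero_of_stalks fun x =>
    ModuleCat.isZero_iff_subsingleton.2 ⟨fun a b => (hz x a).trans (hz x b).symm⟩
  haveI : IsIso (0 : G ⟶ G) := ⟨0, hZ.eq_of_src _ _, hZ.eq_of_src _ _⟩
  have e : G ≅ G ⊞ G :=
    hZ.iso (by rw [IsZero.iff_id_eq_zero]; exact biprod.hom_ext _ _ (hZ.eq_of_tgt _ _) (hZ.eq_of_tgt _ _))
  have h2 := EulerLib.euler_congr k X e
  have hadd := EulerLib.euler_additive k X (ShortComplex.mk (biprod.inl : G ⟶ G ⊞ G) biprod.snd biprod.inl_snd)
    (ShortComplex.Splitting.ofHasBinaryBiproduct G G).shortExact h.2.1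
    (Coherent.Existence.isCoh_biprod h.2.1 h.2.1) h.2.1
  dsimp only at hadd
  omega

theorem degOn_noGeneric [IsReduced X]
    (hpure : ∀ C ∈ irreducibleComponents (X : Type u), topologicalKrullDim C = 1)
    {r : ℕ} {E : X.Modules} (hE : FlatMod.IsFinLocFreeOfRank r E) {T : Set X} (hT : IsClosed T)
    (h0 : ∀ η ∈ genericPoints X, η ∉ T) : degOn k E r T hT = 0 := by
  obtain ⟨S, c, hS, h⟩ := exists_degree_sum k hpure hE
  rw [h]
  exact Finset.sum_eq_zero fun ξ hξ => Set.indicator_of_notMem (h0 ξ ((hS ξ).1 hξ)) c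

variable [IsReduced X]

/-- The degree on the whole curve. -/
theorem degOn_univ {r : ℕ} {E : X.Modules} (hE : FlatMod.IsFinLocFreeOfRank r E) :
    degOn k E r Set.univ isClosed_univ = Curv2.deg k X E r := by
  haveI := isNoetherian_of_proper (X := X) k
  let g := VecSt.subschι X Set.univ isClosed_univ
  haveI : Surjective g := ⟨fun x => by
    have h : x ∈ ((Scheme.IdealSheafData.vanishingIdeal (X := X) ⟨Set.univ, isClosed_univ⟩).support : Set X) := by
      rw [Scheme.IdealSheafData.coe_support_vanishingIdeal]; trivial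
    rwa [← Scheme.IdealSheafData.range_subschemeι] at h⟩
  haveI : IsClosedImmersion g :=
    inferInstanceAs (IsClosedImmersion (Scheme.IdealSheafData.vanishingIdeal (X := X) ⟨Set.univ, isClosed_univ⟩).subschemeι)
  haveI : IsIso g := isIso_of_isClosedImmersion_of_surjective g
  letI : (VecSt.subsch X Set.univ isClosed_univ).Over (Spec (CommRingCat.of k)) :=
    ⟨g ≫ (X ↘ Spec (CommRingCat.of k))⟩
  haveI : IsProper (VecSt.subsch X Set.univ isClosed_univ ↘ Spec (CommRingCat.of k)) :=
    inferInstanceAs (IsProper (g ≫ (X ↘ Spec (CommRingCat.of k))))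
  haveI : IsIso (ClSub.unitToPush g) := TwistLib.G.isIso_of_bijective_on_basis _ (fun _ => True)
    (fun V y hy => ⟨V, trivial, hy, le_rfl⟩) fun W _ => ConcreteCategory.bijective_of_isIso (g.app W)
  exact (VarietyLib.degFun_push k g rfl hE).symm.trans
    ((VarietyLib.degFun_iso k (asIso (ClSub.unitToPush g)).symm).trans (VarietyLib.degFun_structure k E))

/-- The inequality for `β`, and its case of equality. -/
theorem Seq.rBeta_le {M N GY : X.Modules} {π : M ⟶ GY} {Y : Set X} (S : Seq M N GY π)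
    (hpure : ∀ C ∈ irreducibleComponents (X : Type u), topologicalKrullDim C = 1)
    {r : ℕ} (hr : 0 < r) {E : X.Modules} (hE : FlatMod.IsFinLocFreeOfRank r E) (hM : LEOne M)
    (hY : TFOne.IsQuotOn X M Y GY π) (hYc : IsClosed Y) {Z W U : Set X} (hZc : IsClosed Z) (hWc : IsClosed W)
    (hUc : IsClosed U) {GZ GW GU : X.Modules} {pZ : N ⟶ GZ}
    {πW : M ⟶ GW} {πU : M ⟶ GU} (hZ : TFOne.IsQuotOn X N Z GZ pZ) (hW : TFOne.IsQuotOn X M W GW πW)
    (hU : TFOne.IsQuotOn X M U GU πU) (hW' : ∀ η ∈ genericPoints X, η ∈ W ↔ η ∈ Y ∧ η ∈ Z)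
    (hU' : ∀ η ∈ genericPoints X, η ∈ U ↔ η ∈ Y ∨ η ∈ Z) :
    TFOne.rBeta X k (X ↘ Spec (CommRingCat.of k)) W hWc E r GW +
        TFOne.rBeta X k (X ↘ Spec (CommRingCat.of k)) U hUc E r GU ≤
      TFOne.rBeta X k (X ↘ Spec (CommRingCat.of k)) Z hZc E r GZ +
        TFOne.rBeta X k (X ↘ Spec (CommRingCat.of k)) Y hYc E r GY ∧
    (TFOne.rBeta X k (X ↘ Spec (CommRingCat.of k)) W hWc E r GW +
        TFOne.rBeta X k (X ↘ Spec (CommRingCat.of k)) U hUc E r GU =
      TFOne.rBeta X k (X ↘ Spec (CommRingCat.of k)) Z hZc E r GZ +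
        TFOne.rBeta X k (X ↘ Spec (CommRingCat.of k)) Y hYc E r GY ↔
      Curv2.euler k X GW + Curv2.euler k X GU = Curv2.euler k X GZ + Curv2.euler k X GY) := by
  haveI := isNoetherian_of_proper (X := X) k
  have hle := (S.euler_le k (dim_le_one_of_pure hpure) hM hY hZ hW hU hW' hU').1
  have hd := degOn_add k hpure hE hYc hZc hUc hWc hU' hW'
  simp only [rBeta_eq]
  have hr' : (0 : ℤ) < r := by exact_mod_cast hr
  refine ⟨by nlinarith, fun h => ?_, fun h => ?_⟩
  · exact mul_left_cancel₀ hr'.ne' (by linarith)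
  · have h' := congrArg (fun z : ℤ => (r : ℤ) * z) h
    simp only [mul_add] at h'
    linarith

end

end Groth.Agent.TF7
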