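import Groth.Agent.TF7.ModifBeta
import Groth.Agent.Coherent.CohOps
import Groth.Agent.CycLib28.InterPull
import Groth.Agent.ModelLib7.SpecialFibre
import Mathlib.RingTheory.Flat.TorsionFree

/-!
# The elementary modification is torsion-free of rank one
-/

set_option autoImplicit false
set_option linter.style.haveILetI false
set_option backward.isDefEq.respectTransparency.types false
set_option backward.isDefEq.respectTransparency false

universe u

open CategoryTheory CategoryTheory.Limits AlgebraicGeometry Opposite TopologicalSpace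
open Groth.Agent.OmegaLib Groth.Agent.Coherent

noncomputable section

namespace Groth.Agent.TF7

/-- The uniformizer acts injectively on a flat module. -/
theorem regular_of_flat {R : Type u} [CommRing R] [IsDomain R] {X : Scheme.{u}}
    (f : X ⟶ Spec (CommRingCat.of R)) {M : X.Modules} (hM : FlatMod.IsFlatOver f M) {r : R} (hr : r ≠ 0) (x : X)
    (a b : (DerSch.stalkFunctor X x).obj M)
    (h : X.presheaf.germ ⊤ x trivial (Coh.toGlobal f r) • a = X.presheaf.germ ⊤ x trivial (Coh.toGlobal f r) • b) :
    a = b := by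
  let A := (Spec (CommRingCat.of R)).presheaf.stalk (f.base x)
  letI : Module A (M.presheaf.stalk x) := FlatMod.moduleStalkOver f M x
  haveI : Module.Flat A (M.presheaf.stalk x) := hM x
  let rA : A := (Spec (CommRingCat.of R)).presheaf.germ ⊤ (f.base x) trivial
    ((Scheme.ΓSpecIso (CommRingCat.of R)).inv.hom r)
  have hrA : rA ≠ 0 := fun h0 => hr (by
    have := AlgebraicGeometry.germ_injective_of_isIntegral (Spec (CommRingCat.of R)) (f.base x) (U := ⊤) trivial
      (h0.trans (map_zero _).symm)
    simpa using congrArg (Scheme.ΓSpecIso (CommRingCat.of R)).hom.hom this)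
  rw [ModelLib7.germ_toGlobal] at h
  exact smul_right_injective (M.presheaf.stalk x) hrA h

variable {X : Scheme.{u}} [IsReduced X]

local notation "St" => DerSch.stalkFunctor X

theorem Seq.isTF1 [IsLocallyNoetherian X] {M N GY : X.Modules} {π : M ⟶ GY} {Y : Set X}
    (S : Seq M N GY π) (hM : TFOne.IsTF1 X M) (hY : TFOne.IsQuotOn X M Y GY π) (hN : Coh.IsCoh N)
    (hμ : ∀ (y : X) (g : (St y).obj GY), (St y).map S.μ g = 0 → g = 0) : TFOne.IsTF1 X N := by
  haveI := hY.1
  have hM' := leOne_of_isRkOne hM.2.2
  refine ⟨hN, fun x => ⟨fun a ha n n' h => ?_⟩, fun η hη => ?_⟩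
  · change (St x).obj N at n n'
    have h' : a • n = a • n' := h
    have h0 : (St x).map S.ν n = (St x).map S.ν n' := by
      have h1 := congrArg ((St x).map S.ν) h'
      rw [map_smul, map_smul] at h1
      exact (hM.2.1 x).isSMulRegular ha h1
    obtain ⟨g, hg⟩ := S.exN x (n - n') (by rw [map_sub, h0, sub_self])
    have hg0 : a • g = 0 := hμ x _ (by rw [map_smul, hg, smul_sub, h', sub_self])
    have hz : g = 0 := (hY.2.2.1 x).isSMulRegular ha (hg0.trans (smul_zero a).symm)
    rw [hz, map_zero] at hg
    exact sub_eq_zero.1 hg.symm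
  · obtain ⟨e⟩ := hM.2.2 η hη
    let e' : (St η).obj M ≃ₗ[X.presheaf.stalk η] X.presheaf.stalk η := e
    by_cases hηY : η ∈ Y
    · have hμb : Function.Bijective ((St η).map S.μ).hom :=
        ⟨(injective_iff_map_eq_zero _).2 (hμ η), fun n => S.exN η n (S.ν_eq_zero hM' hY hη hηY n)⟩
      have hπb : Function.Bijective ((St η).map π).hom :=
        ⟨(injective_iff_map_eq_zero _).2 fun m hm => quot_injective_generic hM' hY hη hηY hm,
          stalk_surjective π η⟩
      exact ⟨((LinearEquiv.ofBijective _ hμb).symm.trans (LinearEquiv.ofBijective _ hπb).symm).trans e'⟩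
    · have hνb : Function.Bijective ((St η).map S.ν).hom :=
        ⟨(injective_iff_map_eq_zero _).2 fun n hn => S.ν_injective hY hηY hn,
          fun m => S.exM η m (stalk_zero_of_notMem hY hηY _)⟩
      exact ⟨(LinearEquiv.ofBijective _ hνb).trans e'⟩

omit [IsReduced X] in
theorem setup_flat {R : Type u} [CommRing R] [IsDomain R] [IsDiscreteValuationRing R] {Z : Scheme.{u}}
    (f : Z ⟶ Spec (CommRingCat.of R)) [IsProper f]
    [X.Over (Spec (CommRingCat.of (IsLocalRing.ResidueField R)))] (i : X ⟶ Z)
    (hsq : IsPullback i (X ↘ Spec (CommRingCat.of (IsLocalRing.ResidueField R))) f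
      (Spec.map (CommRingCat.ofHom (IsLocalRing.residue R))))
    (I : Z.Modules) (hIc : Coh.IsCoh I) (hIf : FlatMod.IsFlatOver f I) {G : X.Modules}
    (π : (Scheme.Modules.pullback i).obj I ⟶ G) [Epi π] (hG : Coh.IsCoh G) {IY : Z.Modules}
    (hIY : IY = kernel ((Scheme.Modules.pullbackPushforwardAdjunction i).unit.app I ≫
      (Scheme.Modules.pushforward i).map π)) :
    Coh.IsCoh ((Scheme.Modules.pullback i).obj IY) ∧
      ∃ S : Seq ((Scheme.Modules.pullback i).obj I) ((Scheme.Modules.pullback i).obj IY) G π,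
        ∀ (y : X) (g : (St y).obj G), (St y).map S.μ g = 0 → g = 0 := by
  obtain ⟨hi, ϖ, hϖ, hker⟩ := exists_uniformizer f i hsq
  haveI := hi
  haveI : IsLocallyNoetherian Z := LocallyOfFiniteType.isLocallyNoetherian f
  haveI : IsLocallyNoetherian X := LocallyOfFiniteType.isLocallyNoetherian i
  obtain ⟨S, hS⟩ := exists_seq i hker I π hIY
  refine ⟨?_, S, hS fun y a b => regular_of_flat f hIf hϖ.ne_zero (i y) a b⟩
  subst hIY
  exact CycLib28.InterSheaf.isCoh_pullback i (isCoh_kernel _ hIc (isCoh_push_finite i hG).1)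

end Groth.Agent.TF7
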