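import Groth.Agent.TF7.SubTransfer
import Groth.Agent.Coherent.ClosedEquiv
import Groth.Agent.OmegaLib.StalkLocal

/-!
# Semistability on a subcurve
-/

set_option autoImplicit false
set_option linter.style.haveILetI false
set_option backward.isDefEq.respectTransparency.types false
set_option backward.isDefEq.respectTransparency false

universe u

open CategoryTheory CategoryTheory.Limits AlgebraicGeometry Opposite TopologicalSpace
open Groth.Agent.OmegaLib Groth.Agent.Coherent Groth.Agent.EulerLib

noncomputable section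

namespace Groth.Agent.TF7

variable {X : Scheme.{u}}

local notation "St" => DerSch.stalkFunctor X

/-- Direct image along a closed immersion preserves epimorphisms. -/
theorem epi_push_map {Z : Scheme.{u}} (i : Z ⟶ X) [IsClosedImmersion i] {A B : Z.Modules} (f : A ⟶ B) [Epi f] :
    Epi ((Coh.push i).map f) := by
  refine epi_of_stalks_surjective _ fun x v => ?_
  by_cases hx : x ∈ Set.range i
  · obtain ⟨y, rfl⟩ := hx
    obtain ⟨e⟩ := FlatCx12.PushStalk.nonempty_stalkPushIso i y
    obtain ⟨a, ha⟩ := stalk_surjective f y (show (DerSch.stalkFunctor Z y).obj B from (e.app B).hom v)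
    refine ⟨(e.app A).inv a, (e.app B).toLinearEquiv.injective ?_⟩
    show (e.app B).hom ((St (i y)).map ((Coh.push i).map f) ((e.app A).inv a)) = (e.app B).hom v
    have h := congr($(e.hom.naturality f) ((e.app A).inv a))
    refine h.trans ?_
    show (DerSch.stalkFunctor Z y).map f ((e.app A).hom ((e.app A).inv a)) = _
    rw [show (e.app A).hom ((e.app A).inv a) = a from (e.app A).toLinearEquiv.apply_symm_apply a, ha]
  · exact ⟨0, (map_zero _).trans (push_stalk_zero i B hx v).symm⟩

variable (k : Type u) [Field k] [X.Over (Spec (CommRingCat.of k))] [IsProper (X ↘ Spec (CommRingCat.of k))]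
  [IsReduced X]

local notation "β" => TFOne.rBeta X k (X ↘ Spec (CommRingCat.of k))

/-- Nonnegativity on all subcurves gives semistability of the quotient on the subcurve. -/
theorem isSemistable_sub {M : X.Modules} (hM : TFOne.IsTF1 X M) {r : ℕ} {E : X.Modules}
    (hE : FlatMod.IsFinLocFreeOfRank r E)
    (hnn : ∀ (T : Set X) (hT : IsClosed T), VecSt.IsSubcurve X T → ∀ (G : X.Modules) (π : M ⟶ G),
      TFOne.IsQuotOn X M T G π → 0 ≤ β T hT E r G)
    {Y : Set X} (hY : IsClosed Y) (hYs : VecSt.IsSubcurve X Y) {GY : X.Modules} {πY : M ⟶ GY}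
    (hGY : TFOne.IsQuotOn X M Y GY πY) :
    TFOne.IsSemistable (VecSt.subsch X Y hY) k (VecSt.subschι X Y hY ≫ (X ↘ Spec (CommRingCat.of k)))
      ((Scheme.Modules.pullback (VecSt.subschι X Y hY)).obj GY)
      ((Scheme.Modules.pullback (VecSt.subschι X Y hY)).obj E) r := by
  haveI := EulerLib.isNoetherian_of_proper (X := X) k
  let i := VecSt.subschι X Y hY
  let W := VecSt.subsch X Y hY
  letI : W.Over (Spec (CommRingCat.of k)) := ⟨i ≫ (X ↘ Spec (CommRingCat.of k))⟩
  haveI : IsClosedImmersion i := isClosedImmersion_subschι Y hY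
  haveI : IsProper (W ↘ Spec (CommRingCat.of k)) :=
    inferInstanceAs (IsProper (i ≫ (X ↘ Spec (CommRingCat.of k))))
  haveI := EulerLib.isNoetherian_of_proper (X := W) k
  haveI : IsReduced W := isReduced_subsch Y hY
  have hr : Set.range i = Y := range_subschι Y hY
  have hP := isTF1_pullback i hM hGY hr hYs
  refine ⟨hP, fun T hT hTs _ G' π' hG' => ?_⟩
  let P := Scheme.Modules.pullback i
  let adj := Scheme.Modules.pullbackPushforwardAdjunction i
  have hiT : IsClosed (i '' T) := i.isClosedEmbedding.isClosedMap T hT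
  have hgenT : ∀ y ∈ genericPoints W, i y ∈ genericPoints X := fun y hy => generic_image hYs i hr hy
  have hiTs : VecSt.IsSubcurve X (i '' T) := by
    obtain ⟨A, hA, hAne, rfl⟩ := hTs
    refine ⟨(Set.image i) '' A, ?_, hAne.image _, by rw [Set.image_sUnion]⟩
    rintro _ ⟨C, hC, rfl⟩
    have hgen := (hA hC).1.isGenericPoint_genericPoint (isClosed_of_mem_irreducibleComponents C (hA hC))
    have hg : (hA hC).1.genericPoint ∈ genericPoints W := by
      show closure _ ∈ irreducibleComponents W
      rw [hgen.def]; exact hA hC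
    have himg : closure ({i (hA hC).1.genericPoint} : Set X) = i '' C := by
      conv_rhs => rw [← hgen.def]
      rw [← i.isClosedEmbedding.closure_image_eq, Set.image_singleton]
    rw [← himg]
    exact hgenT _ hg
  obtain ⟨G, πT, hG⟩ := exists_quot_subcurve k hM hiT hiTs
  haveI := hG.1; haveI := hG'.1; haveI := hGY.1
  have hM' := leOne_of_isRkOne hM.2.2
  have hP' := leOne_of_isRkOne hP.2.2
  haveI := hGY.2.1.1
  haveI : Epi (adj.unit.app GY) := Coherent.epi_clUnit i (F := GY)
  haveI := epi_push_map i π'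
  let π'' : M ⟶ (Coh.push i).obj G' := πY ≫ adj.unit.app GY ≫ (Coh.push i).map π'
  have hπ'' : π'' = adj.homEquiv M G' (P.map πY ≫ π') := by
    rw [Adjunction.homEquiv_naturality_left, Adjunction.homEquiv_unit]
  have hzero : ∀ {A : X.Modules} (a : A ⟶ M), a ≫ π'' = 0 ↔ P.map (a ≫ πY) ≫ π' = 0 := fun {A} a => by
    rw [hπ'', ← Adjunction.homEquiv_naturality_left, ← Category.assoc, ← Functor.map_comp]
    refine ⟨fun h => (adj.homEquiv A G').injective (h.trans ?_), fun h => ?_⟩
    · rw [Adjunction.homEquiv_unit, Functor.map_zero, comp_zero]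
    · rw [h, Adjunction.homEquiv_unit, Functor.map_zero, comp_zero]
  have hout : ∀ η ∈ genericPoints X, η ∉ Set.range i → ∀ g : (St η).obj GY, g = 0 :=
    fun η _ h g => stalk_zero_of_notMem hGY (hr ▸ h) g
  have hk1 : kernel.ι πT ≫ π'' = 0 := (hzero _).2 (VarietyLib.eq_zero_of_stalks _ fun y v => by
    obtain ⟨a, rfl⟩ := pbs_surjective i (kernel πT) y v
    rw [map_comp_apply, pbs_map]
    refine (map_eq_zero_iff hP' hG' _).2 fun η hη hηT hs => ?_
    rw [spec_pbs, spec_map, map_comp_apply]
    suffices h0 : (St (i η)).map (kernel.ι πT) (spec (kernel πT) (hs.map i.continuous) a) = 0 by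
      rw [h0, map_zero, map_zero]
    exact quot_injective_generic hM' hG (hgenT η hη) ⟨η, hηT, rfl⟩
      (by rw [← map_comp_apply, kernel.condition, map_zero_apply]))
  let q : G ⟶ (Coh.push i).obj G' := Abelian.epiDesc πT π'' hk1
  have hq : πT ≫ q = π'' := Abelian.comp_epiDesc _ _ _
  haveI : Epi π'' := inferInstance
  haveI : Epi q := epi_of_epi_fac hq
  haveI : Mono q := mono_of_stalks_injective q fun x => (injective_iff_map_eq_zero _).2 fun g hg => by
    obtain ⟨m, rfl⟩ := stalk_surjective πT x g
    rw [← map_comp_apply, hq] at hg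
    obtain ⟨l, rfl⟩ := exists_kernel_lift π'' m hg
    refine (map_eq_zero_iff hM' hG _).2 fun η hη hηT hs => ?_
    rw [spec_map]
    obtain ⟨y, hyT, rfl⟩ := hηT
    have hy := generic_preimage i hη
    have h0 := (hzero (kernel.ι π'')).1 (kernel.condition π'')
    have h1 := congrArg (fun φ => (DerSch.stalkFunctor W y).map φ (pbs i _ y (spec _ hs l))) h0
    dsimp only at h1
    rw [map_comp_apply, pbs_map, map_zero_apply, map_comp_apply] at h1
    refine quot_injective_generic hM' hGY hη (hr.le ⟨y, rfl⟩) ?_
    exact pbs_injective i hGY.2.1 hGY.2.2.1 hout y _ (quot_injective_generic hP' hG' hy hyT h1)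
  haveI : IsIso q := isIso_of_mono_of_epi q
  haveI := hG'.2.1.1
  haveI : IsAffineHom i := inferInstance
  haveI := EulerLib.isSeparated_of_proper (X := X) k
  have hχ : Curv2.euler k X G = Curv2.euler k W G' :=
    (euler_congr k X (asIso q)).trans (AbCubeLib.euler_push k i rfl G').symm
  -- the reduced subscheme on `T` seen in `X` and in `W`
  let U := VecSt.subsch W T hT
  let j := VecSt.subschι W T hT
  let U' := VecSt.subsch X (i '' T) hiT
  let j' := VecSt.subschι X (i '' T) hiT
  haveI : IsReduced U := isReduced_subsch T hT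
  haveI : IsReduced U' := isReduced_subsch _ hiT
  haveI : IsClosedImmersion j := isClosedImmersion_subschι T hT
  haveI : IsClosedImmersion j' := isClosedImmersion_subschι _ hiT
  have hker : j'.ker = (j ≫ i).ker := by
    rw [Props12.ker_eq_vanishingIdeal, Props12.ker_eq_vanishingIdeal]
    congr 1
    refine Closeds.ext ?_
    show closure (Set.range j') = closure (Set.range (j ≫ i))
    rw [range_subschι, Scheme.Hom.comp_base]
    congr 1
    show i '' T = Set.range (i ∘ j)
    rw [Set.range_comp, range_subschι]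
  let e : U ⟶ U' := IsClosedImmersion.lift j' (j ≫ i) hker.le
  let e' : U' ⟶ U := IsClosedImmersion.lift (j ≫ i) j' hker.ge
  haveI : IsIso e := ⟨e', (cancel_mono (j ≫ i)).1 (by simp [e, e']), (cancel_mono j').1 (by simp [e, e'])⟩
  letI : U.Over (Spec (CommRingCat.of k)) := ⟨j ≫ (W ↘ Spec (CommRingCat.of k))⟩
  letI : U'.Over (Spec (CommRingCat.of k)) := ⟨j' ≫ (X ↘ Spec (CommRingCat.of k))⟩
  haveI : IsProper (U ↘ Spec (CommRingCat.of k)) := inferInstanceAs (IsProper (j ≫ (W ↘ Spec (CommRingCat.of k))))
  haveI : IsProper (U' ↘ Spec (CommRingCat.of k)) :=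
    inferInstanceAs (IsProper (j' ≫ (X ↘ Spec (CommRingCat.of k))))
  have hdeg : degOn k E r (i '' T) hiT =
      Curv2.deg k U ((Scheme.Modules.pullback j).obj (P.obj E)) r := by
    have h1 := VarietyLib.degFun_push k j' rfl hE
    have h2 := VarietyLib.degFun_push k (j ≫ i) (Category.assoc j i _) hE
    have he : (Coh.push j').obj (Coh.structureModule U') ≅ (Coh.push (j ≫ i)).obj (Coh.structureModule U) := by
      haveI : IsIso (ClSub.unitToPush e) := TwistLib.G.isIso_of_bijective_on_basis _ (fun _ => True)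
        (fun V y hy => ⟨V, trivial, hy, le_rfl⟩) fun V _ => ConcreteCategory.bijective_of_isIso (e.app V)
      exact (Coh.push j').mapIso (asIso (ClSub.unitToPush e)) ≪≫
        (Scheme.Modules.pushforwardComp e j').app _ ≪≫
        eqToIso (by rw [IsClosedImmersion.lift_fac])
    refine (show degOn k E r (i '' T) hiT = _ from h1.symm).trans
      ((VarietyLib.degFun_iso k he).trans (h2.trans ?_))
    exact CurveRR24.deg_congr (k := k) (((Scheme.Modules.pullbackComp j i).app E).symm) r
  have hnn' := hnn (i '' T) hiT hiTs G πT hG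
  rw [rBeta_eq, hdeg, hχ] at hnn'
  exact hnn'

end Groth.Agent.TF7
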