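import Groth.Agent.TF7.ModifMin

/-!
# Decomposition of an elementary modification
-/

set_option autoImplicit false
set_option linter.style.haveILetI false
set_option backward.isDefEq.respectTransparency.types false
set_option backward.isDefEq.respectTransparency false

universe u

open CategoryTheory CategoryTheory.Limits AlgebraicGeometry Opposite TopologicalSpace
open Groth.Agent.OmegaLib Groth.Agent.Coherent Groth.Agent.EulerLib

noncomputable section

namespace Groth.Agent.TF7

variable {X : Scheme.{u}} [IsReduced X] [IsLocallyNoetherian X]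

local notation "St" => DerSch.stalkFunctor X

variable {M N GY : X.Modules} {π : M ⟶ GY} {Y Y' : Set X} {G1 G2 : X.Modules} {π1 : N ⟶ G1} {π2 : N ⟶ G2}

/-- The modification decomposes at `Y` iff `GY` maps onto its quotient on `Y`. -/
theorem Seq.isIso_lift_iff (S : Seq M N GY π) (hM : LEOne M) (hMtf : TorSh.IsTorsionFree M)
    (hMq : Coh.IsQCoh M) (hY : TFOne.IsQuotOn X M Y GY π) (hY' : ∀ η ∈ genericPoints X, η ∈ Y' ↔ η ∉ Y)
    (h1 : TFOne.IsQuotOn X N Y G1 π1) (h2 : TFOne.IsQuotOn X N Y' G2 π2) :
    IsIso (biprod.lift π1 π2) ↔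
      ∀ (x : X) (a : (St x).obj G1), ∃ g, (St x).map π1 ((St x).map S.μ g) = a := by
  haveI := hY.1; haveI := h1.1; haveI := h2.1
  have hN : LEOne N := S.leOne hM hY
  have hk : ∀ (x : X) (n : (St x).obj N), (St x).map π2 n = 0 → ∃ g, (St x).map S.μ g = n := by
    intro x n hn
    refine S.exN x n (eq_zero_of_generic hMq hMtf _ fun η hη hs => ?_)
    rw [spec_map]
    by_cases hηY : η ∈ Y
    · exact S.ν_eq_zero hM hY hη hηY _
    · rw [(map_eq_zero_iff hN h2 n).1 hn η hη ((hY' η hη).2 hηY) hs, map_zero]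
  have h2μ : ∀ (x : X) (g : (St x).obj GY), (St x).map π2 ((St x).map S.μ g) = 0 := fun x g =>
    (map_eq_zero_iff hN h2 _).2 fun η hη hηY hs => by
      rw [spec_map, stalk_zero_of_notMem hY ((hY' η hη).1 hηY) (spec GY hs g), map_zero]
  haveI : Mono (biprod.lift π1 π2) := by
    refine mono_of_stalks_injective _ fun x => (injective_iff_map_eq_zero _).2 fun n hn => ?_
    have ha : (St x).map π1 n = 0 := by
      rw [← biprod.lift_fst π1 π2, map_comp_apply, hn, map_zero]
    have hb : (St x).map π2 n = 0 := by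
      rw [← biprod.lift_snd π1 π2, map_comp_apply, hn, map_zero]
    obtain ⟨g, rfl⟩ := hk x n hb
    suffices hg : g = 0 by rw [hg, map_zero]
    refine eq_zero_of_generic hY.2.1.1 hY.2.2.1 g fun η hη hs => ?_
    by_cases hηY : η ∈ Y
    · have h := (map_eq_zero_iff hN h1 _).1 ha η hη hηY hs
      rw [spec_map] at h
      obtain ⟨n₀, hn₀⟩ := exists_ne_zero h1 hηY
      exact S.μ_injective hM hY hη hηY hn₀ h
    · exact stalk_zero_of_notMem hY hηY _
  refine ⟨fun h x a => ?_, fun h => ?_⟩
  · obtain ⟨n, hn⟩ := stalk_surjective (biprod.lift π1 π2) x ((St x).map biprod.inl a)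
    have ha : (St x).map π1 n = a := by
      rw [← biprod.lift_fst π1 π2, map_comp_apply, hn, ← map_comp_apply, biprod.inl_fst,
        CategoryTheory.Functor.map_id]
      rfl
    have hb : (St x).map π2 n = 0 := by
      rw [← biprod.lift_snd π1 π2, map_comp_apply, hn, ← map_comp_apply, biprod.inl_snd, map_zero_apply]
    obtain ⟨g, rfl⟩ := hk x n hb
    exact ⟨g, ha⟩
  · haveI : Epi (biprod.lift π1 π2) := epi_of_stalks_surjective _ fun x w => by
      obtain ⟨n, hn⟩ := stalk_surjective π2 x ((St x).map biprod.snd w)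
      obtain ⟨g, hg⟩ := h x ((St x).map biprod.fst w - (St x).map π1 n)
      refine ⟨n + (St x).map S.μ g, sub_eq_zero.1 (biprod_ext _ ?_ ?_)⟩
      · rw [map_sub, ← map_comp_apply, biprod.lift_fst, map_add, hg, add_sub_cancel, sub_self]
      · rw [map_sub, ← map_comp_apply, biprod.lift_snd, map_add, hn, h2μ, add_zero, sub_self]
    exact isIso_of_mono_of_epi _

end Groth.Agent.TF7
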