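import Groth.Agent.TF7.Quot

/-!
# Morphisms vanishing on an open
-/

set_option autoImplicit false
set_option linter.style.haveILetI false
set_option backward.isDefEq.respectTransparency.types false
set_option backward.isDefEq.respectTransparency false

universe u

open CategoryTheory CategoryTheory.Limits AlgebraicGeometry Opposite TopologicalSpace
open Groth.Agent.OmegaLib

noncomputable section

namespace Groth.Agent.TF7

variable {X : Scheme.{u}}

theorem stalk_map_eq_zero_of_restrict {A B : X.Modules} (f : A ⟶ B) (U : X.Opens)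
    (h : (Scheme.Modules.restrictFunctor U.ι).map f = 0) {x : X} (hx : x ∈ U)
    (a : (DerSch.stalkFunctor X x).obj A) : (DerSch.stalkFunctor X x).map f a = 0 := by
  obtain ⟨W, hW, s, rfl⟩ := exists_gm A a
  have hle : U.ι ''ᵁ (U.ι ⁻¹ᵁ W) ≤ W := by rw [Scheme.Hom.image_preimage_eq_opensRange_inf]; exact inf_le_right
  have hx' : x ∈ U.ι ''ᵁ (U.ι ⁻¹ᵁ W) := ⟨⟨x, hx⟩, hW, rfl⟩
  rw [← gm_res A hW hle hx' s, map_gm]
  have h0 : f.app (U.ι ''ᵁ (U.ι ⁻¹ᵁ W)) (A.presheaf.map (homOfLE hle).op s) = 0 :=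
    congr(Scheme.Modules.Hom.app $h (U.ι ⁻¹ᵁ W) (A.presheaf.map (homOfLE hle).op s))
  rw [h0, gm_zero]

end Groth.Agent.TF7
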