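import Groth.Agent.TF7.ModifMin
import Groth.Agent.TF7.Decomposable

/-!
# `β` as a twisted Euler characteristic
-/

set_option autoImplicit false
set_option linter.style.haveILetI false
set_option backward.isDefEq.respectTransparency.types false
set_option backward.isDefEq.respectTransparency false

universe u

open CategoryTheory CategoryTheory.Limits AlgebraicGeometry Opposite TopologicalSpace
open Groth.Agent.OmegaLib Groth.Agent.Coherent Groth.Agent.EulerLib Groth.Agent.VarietyLib

noncomputable section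

namespace Groth.Agent.TF7

variable {X : Scheme.{u}} [IsReduced X]

local notation "St" => DerSch.stalkFunctor X

theorem mult_of_leOne {G : X.Modules} (hG : LEOne G) {η : X} (hη : η ∈ genericPoints X)
    {v : (St η).obj G} (hv : v ≠ 0) : mult G η = 1 := by
  haveI : IsSimpleModule (X.presheaf.stalk η) ((St η).obj G) := by
    letI := (isField_stalk hη).toField
    refine isSimpleModule_iff_toSpanSingleton_surjective.2 ⟨⟨⟨_, 0, hv⟩⟩, fun w hw b => ?_⟩
    obtain ⟨c, rfl⟩ := hG η hη w b hw
    exact ⟨c, rfl⟩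
  show (Module.length (X.presheaf.stalk η) ((St η).obj G)).toNat = 1
  rw [Module.length_eq_one_iff.2 ‹_›]
  rfl

variable (k : Type u) [Field k] [X.Over (Spec (CommRingCat.of k))]
  [IsProper (X ↘ Spec (CommRingCat.of k))]

/-- `β` is the Euler characteristic of the twist. -/
theorem rBeta_eq_euler_tensor (hdim : topologicalKrullDim X ≤ 1)
    {r : ℕ} {E : X.Modules} (hE : FlatMod.IsFinLocFreeOfRank r E) {M G : X.Modules} (hM : LEOne M)
    {T : Set X} (hT : IsClosed T) {π : M ⟶ G} (h : TFOne.IsQuotOn X M T G π) :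
    TFOne.rBeta X k (X ↘ Spec (CommRingCat.of k)) T hT E r G = Curv2.euler k X (CohB1.tensorMod G E) := by
  haveI := isNoetherian_of_proper (X := X) k
  obtain ⟨S, c, hS, hdeg, hsum⟩ := exists_degree_sum' k hdim hE
  have e1 : degFun k r E G = degOn k E r T hT := by
    rw [hdeg G h.2.1, hsum T hT]
    refine Finset.sum_congr rfl fun ξ hξ => ?_
    by_cases hξT : ξ ∈ T
    · rw [Set.indicator_of_mem hξT]
      obtain ⟨v, hv⟩ : ∃ v : (St ξ).obj G, v ≠ 0 := by
        by_contra! hall
        have hsupp : ξ ∈ CohB1.support G := h.2.2.2 ▸ hξT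
        exact hsupp (subsingleton_of_forall_eq 0 hall)
      rw [mult_of_leOne (leOne_quot hM h) ((hS ξ).1 hξ) hv, one_smul]
    · rw [Set.indicator_of_notMem hξT, mult_eq_zero, zero_smul]
      rwa [h.2.2.2]
  rw [rBeta_eq, ← e1, degFun]
  ring

theorem degOn_eq_zero (hdim : topologicalKrullDim X ≤ 1)
    {r : ℕ} {E : X.Modules} (hE : FlatMod.IsFinLocFreeOfRank r E) {T : Set X} (hT : IsClosed T)
    (h0 : ∀ η ∈ genericPoints X, η ∉ T) : degOn k E r T hT = 0 := by
  obtain ⟨S, c, hS, -, h⟩ := exists_degree_sum' k hdim hE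
  rw [h T hT]
  exact Finset.sum_eq_zero fun ξ hξ => Set.indicator_of_notMem (h0 ξ ((hS ξ).1 hξ)) _

/-- On a semistable sheaf, every quotient has non-negative twisted Euler characteristic. -/
theorem euler_tensor_nonneg (hdim : topologicalKrullDim X ≤ 1)
    {r : ℕ} {E : X.Modules} (hE : FlatMod.IsFinLocFreeOfRank r E) {M : X.Modules}
    (hM : TFOne.IsSemistable X k (X ↘ Spec (CommRingCat.of k)) M E r)
    (h0 : Curv2.euler k X (CohB1.tensorMod M E) = 0) {Q : X.Modules} (hQ : Coh.IsCoh Q) (p : M ⟶ Q) [Epi p] :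
    0 ≤ Curv2.euler k X (CohB1.tensorMod Q E) := by
  haveI := isNoetherian_of_proper (X := X) k
  have hM1 := leOne_of_isRkOne hM.1.2.2
  obtain ⟨hTc, G, π, hG⟩ := exists_quot_components k hM.1 fun C => ∀ η ∈ genericPoints X,
    closure ({η} : Set X) = C → ∃ v : (St η).obj Q, v ≠ 0
  haveI := hG.1
  let T := ⋃₀ {C | C ∈ irreducibleComponents (X : Type u) ∧ ∀ η ∈ genericPoints X,
    closure ({η} : Set X) = C → ∃ v : (St η).obj Q, v ≠ 0}
  have hmem : ∀ η ∈ genericPoints X, η ∈ T ↔ ∃ v : (St η).obj Q, v ≠ 0 := fun η hη => by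
    refine (mem_sUnion_components hη).trans ⟨fun h => h η hη rfl, fun h η' hη' he => ?_⟩
    rw [closure_eq_iff hη] at he
    exact he ▸ h
  have hpinj : ∀ η ∈ genericPoints X, η ∈ T → ∀ m : (St η).obj M, (St η).map p m = 0 → m = 0 := by
    intro η hη hηT m hm
    by_contra hne
    obtain ⟨v, hv⟩ := (hmem η hη).1 hηT
    obtain ⟨m', rfl⟩ := stalk_surjective p η v
    obtain ⟨c, rfl⟩ := hM1 η hη m m' hne
    exact hv (by rw [map_smul, hm, smul_zero])
  obtain ⟨q, hq⟩ := exists_desc p π fun x m hm => (map_eq_zero_iff hM1 hG m).2 fun η hη hηT hs =>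
    hpinj η hη hηT _ (by rw [← spec_map, hm, spec_zero])
  haveI : Epi q := by
    haveI : Epi (p ≫ q) := by rw [hq]; infer_instance
    exact epi_of_epi p q
  let S : ShortComplex X.Modules := ShortComplex.mk (kernel.ι q) q (kernel.condition q)
  have hS : S.ShortExact := { exact := ShortComplex.exact_kernel q }
  have hKc : Coh.IsCoh (kernel q) := isCoh_kernel q hQ hG.2.1.1
  have hK0 : ∀ η ∈ genericPoints X, ∀ v : (St η).obj (kernel q), v = 0 := fun η hη v => by
    apply stalk_injective (kernel.ι q) η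
    rw [map_zero]
    have hv : (St η).map q ((St η).map (kernel.ι q) v) = 0 := by
      rw [← map_comp_apply, kernel.condition, map_zero_apply]
    by_cases hηT : η ∈ T
    · obtain ⟨m, hm⟩ := stalk_surjective p η ((St η).map (kernel.ι q) v)
      rw [← hm, ← map_comp_apply, hq] at hv
      rw [← hm, quot_injective_generic hM1 hG hη hηT hv, map_zero]
    · by_contra hne
      exact hηT ((hmem η hη).2 ⟨_, hne⟩)
  obtain ⟨hK, -⟩ := euler_small k hdim hKc hK0
  obtain ⟨S0, c, hS0, hdeg, -⟩ := exists_degree_sum' k hdim hE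
  have hKdeg : degFun k r E (kernel q) = 0 := by
    rw [hdeg _ hKc]
    refine Finset.sum_eq_zero fun ξ hξ => ?_
    rw [mult_eq_zero, zero_smul]
    exact fun h => h (subsingleton_of_forall_eq 0 (hK0 ξ ((hS0 ξ).1 hξ)))
  have hadd := degFun_add k hE S hS hKc hQ hG.2.1
  have hχ : Curv2.euler k X Q = Curv2.euler k X (kernel q) + Curv2.euler k X G := by
    haveI := isSeparated_of_proper (X := X) k
    exact euler_additive k X S hS hKc hQ hG.2.1
  have hGnn : 0 ≤ Curv2.euler k X (CohB1.tensorMod G E) := by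
    rw [← rBeta_eq_euler_tensor k hdim hE hM1 hTc hG]
    by_cases hne : ∃ η ∈ genericPoints X, η ∈ T
    · by_cases huniv : T = Set.univ
      · haveI : Mono π := mono_of_stalks_injective _ fun x => (injective_iff_map_eq_zero _).2 fun m hm =>
          eq_zero_of_generic hM.1.1.1 hM.1.2.1 m fun η hη hs =>
            (map_eq_zero_iff hM1 hG m).1 hm η hη (huniv.ge trivial) hs
        haveI : IsIso π := isIso_of_mono_of_epi π
        rw [rBeta_eq_euler_tensor k hdim hE hM1 hTc hG,
          ← euler_congr k X (AmpleLib.tensorIso (asIso π) (Iso.refl E)), h0]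
      · exact hM.2 T hTc (isSubcurve_components (by
          obtain ⟨η, hη, hηT⟩ := hne
          exact ⟨η, hη, hηT⟩)) huniv G π hG
    · push Not at hne
      rw [rBeta_eq, euler_noGeneric k hG hne, degOn_eq_zero k hdim hE hTc hne]
      simp
  have e : ∀ N : X.Modules, Curv2.euler k X (CohB1.tensorMod N E) = degFun k r E N + r * Curv2.euler k X N :=
    fun N => by rw [degFun]; ring
  change degFun k r E Q = degFun k r E (kernel q) + degFun k r E G at hadd
  rw [e] at hGnn
  rw [e, hadd, hKdeg, hχ, mul_add]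
  nlinarith [mul_nonneg (Int.natCast_nonneg r) hK]

end Groth.Agent.TF7
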