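import Groth.Agent.TF7.Pull
import Groth.Agent.ModelLib7.SpecialFibre
import Mathlib.RingTheory.DiscreteValuationRing.Basic

/-!
# Elementary modification along a subcurve of the special fibre
-/

set_option autoImplicit false
set_option linter.style.haveILetI false
set_option backward.isDefEq.respectTransparency.types false
set_option backward.isDefEq.respectTransparency false

universe u

open CategoryTheory CategoryTheory.Limits AlgebraicGeometry Opposite TopologicalSpace
open Groth.Agent.OmegaLib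

noncomputable section

namespace Groth.Agent.TF7

variable {Z : Scheme.{u}}

local notation "St" => DerSch.stalkFunctor Z

/-- The two exact sequences `N → M → G → 0`, `G → N → M`. -/
structure Seq (M N G : Z.Modules) (π : M ⟶ G) where
  ν : N ⟶ M
  μ : G ⟶ N
  νπ : ν ≫ π = 0
  μν : μ ≫ ν = 0
  exM : ∀ (y : Z) (m : (St y).obj M), (St y).map π m = 0 → ∃ n, (St y).map ν n = m
  exN : ∀ (y : Z) (n : (St y).obj N), (St y).map ν n = 0 → ∃ g, (St y).map μ g = n

/-- A section of a sheaf of modules whose germ vanishes vanishes nearby. -/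
theorem exists_res_eq_zero (M : Z.Modules) {U : Z.Opens} {y : Z} (hy : y ∈ U) (s : Γ(M, U))
    (h : gm M U y hy s = 0) : ∃ (V : Z.Opens) (hV : V ≤ U), y ∈ V ∧ M.presheaf.map (homOfLE hV).op s = 0 := by
  obtain ⟨W, hyW, a, b, hab⟩ := M.presheaf.germ_eq y hy hy s 0
    (h.trans (gm_zero M hy).symm)
  refine ⟨W, a.le, hyW, ?_⟩
  rw [show homOfLE a.le = a from Subsingleton.elim _ _, hab, map_zero]

theorem exists_seq {X : Scheme.{u}} (i : Z ⟶ X) [IsClosedImmersion i] {t : Γ(X, ⊤)}
    (hker : ∀ y, RingHom.ker (i.stalkMap y).hom = Ideal.span {X.presheaf.germ ⊤ (i y) trivial t})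
    (I : X.Modules) {G : Z.Modules} (π : (Scheme.Modules.pullback i).obj I ⟶ G) [Epi π] {IY : X.Modules}
    (hIY : IY = kernel ((Scheme.Modules.pullbackPushforwardAdjunction i).unit.app I ≫
      (Scheme.Modules.pushforward i).map π)) :
    ∃ S : Seq ((Scheme.Modules.pullback i).obj I) ((Scheme.Modules.pullback i).obj IY) G π,
      (∀ (y : Z) (a b : (DerSch.stalkFunctor X (i y)).obj I),
          X.presheaf.germ ⊤ (i y) trivial t • a = X.presheaf.germ ⊤ (i y) trivial t • b → a = b) →
        ∀ (y : Z) (g : (St y).obj G), (St y).map S.μ g = 0 → g = 0 := by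
  subst hIY
  let adj := Scheme.Modules.pullbackPushforwardAdjunction i
  let P := Scheme.Modules.pullback i
  let φ : I ⟶ (Scheme.Modules.pushforward i).obj G := adj.unit.app I ≫ (Scheme.Modules.pushforward i).map π
  have hφ : φ = adj.homEquiv _ _ π := (Adjunction.homEquiv_unit adj _ _ π).symm
  have hzero : ∀ {A : X.Modules}, adj.homEquiv A G 0 = 0 := fun {A} => by
    rw [Adjunction.homEquiv_unit, Functor.map_zero, comp_zero]
  have hcomp : ∀ {A : X.Modules} (a : A ⟶ I), P.map a ≫ π = 0 ↔ a ≫ φ = 0 := fun {A} a => by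
    rw [hφ, ← Adjunction.homEquiv_naturality_left, ← hzero, (adj.homEquiv _ _).injective.eq_iff]
  let ι := kernel.ι φ
  have hνπ : P.map ι ≫ π = 0 := (hcomp ι).2 (kernel.condition φ)
  have hsφ : EulerLib.smulMod I t ≫ φ = 0 := (hcomp _).1 (by
    rw [show P.map (EulerLib.smulMod I t) = 0 from pullback_map_smulMod i hker I, zero_comp])
  let μ' : I ⟶ kernel φ := kernel.lift φ _ hsφ
  have hμ' : μ' ≫ ι = EulerLib.smulMod I t := kernel.lift_ι _ _ _
  have hιμ : ι ≫ μ' = EulerLib.smulMod (kernel φ) t := by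
    rw [← cancel_mono ι, Category.assoc, hμ']
    refine hom_ext_stalks _ _ fun x a => ?_
    rw [map_comp_apply, map_comp_apply, map_smulMod, map_smulMod, map_smul]
  have exM : ∀ (y : Z) (m : (St y).obj (P.obj I)), (St y).map π m = 0 → ∃ n, (St y).map (P.map ι) n = m := by
    intro y v hv
    obtain ⟨m, rfl⟩ := pbs_surjective i I y v
    obtain ⟨U, hy, s, rfl⟩ := exists_gm I m
    rw [pbs_gm, map_gm] at hv
    obtain ⟨V, hVU, hyV, hV⟩ := exists_res_eq_zero G (U := i ⁻¹ᵁ U) hy _ hv
    obtain ⟨U', hU', hU'V⟩ := i.isClosedEmbedding.isInducing.isOpen_iff.1 V.2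
    let W : X.Opens := U ⊓ ⟨U', hU'⟩
    have hWV : i ⁻¹ᵁ W ≤ V := fun z hz => (Set.ext_iff.1 hU'V z).1 hz.2
    have hyW : i y ∈ W := ⟨hy, (Set.ext_iff.1 hU'V y).2 hyV⟩
    have h0 : φ.app W (I.presheaf.map (homOfLE (inf_le_left : W ≤ U)).op s) = 0 := by
      show π.app (i ⁻¹ᵁ W) (OmegaSh.pullSect i I W (I.presheaf.map (homOfLE (inf_le_left : W ≤ U)).op s)) = 0
      have e : OmegaSh.pullSect i I W (I.presheaf.map (homOfLE (inf_le_left : W ≤ U)).op s) =
          (P.obj I).presheaf.map (homOfLE (i.preimage_mono (inf_le_left : W ≤ U))).op (OmegaSh.pullSect i I U s) :=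
        congr($((adj.unit.app I).mapPresheaf.naturality (homOfLE (inf_le_left : W ≤ U)).op) s)
      rw [e]
      refine (congr($(π.mapPresheaf.naturality (homOfLE (i.preimage_mono (inf_le_left : W ≤ U))).op)
        (OmegaSh.pullSect i I U s))).trans ?_
      have hV' : G.presheaf.map (homOfLE hWV).op
          (G.presheaf.map (homOfLE hVU).op (π.app (i ⁻¹ᵁ U) (OmegaSh.pullSect i I U s))) = 0 := by
        rw [hV, map_zero]
      refine Eq.trans ?_ hV'
      refine Eq.trans ?_ (ConcreteCategory.comp_apply _ _ _)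
      refine (ConcreteCategory.comp_apply _ _ _).trans ?_
      rw [← Functor.map_comp]
      rfl
    have h1 : (DerSch.stalkFunctor X (i y)).map φ
        (gm I W (i y) hyW (I.presheaf.map (homOfLE (inf_le_left : W ≤ U)).op s)) = 0 := by
      rw [map_gm, h0, gm_zero]
    obtain ⟨n, hn⟩ := exists_kernel_lift φ _ h1
    refine ⟨pbs i (kernel φ) y n, ?_⟩
    rw [pbs_map, hn, gm_res]
  have hPμ : ∀ (y : Z) (v : (St y).obj (P.obj I)), (St y).map π v = 0 → (St y).map (P.map μ') v = 0 := by
    intro y v hv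
    obtain ⟨n, rfl⟩ := exM y v hv
    rw [← map_comp_apply, ← Functor.map_comp, hιμ,
      show P.map (EulerLib.smulMod (kernel φ) t) = 0 from pullback_map_smulMod i hker _, map_zero_apply]
  obtain ⟨μ, hμ⟩ := exists_desc π (P.map μ') hPμ
  refine ⟨⟨P.map ι, μ, hνπ, ?_, exM, fun y n hn => ?_⟩, fun hreg y g hg => ?_⟩
  · rw [← cancel_epi π, ← Category.assoc, hμ, ← Functor.map_comp, hμ', comp_zero]
    exact pullback_map_smulMod i hker I
  · obtain ⟨w, rfl⟩ := pbs_surjective i (kernel φ) y n
    rw [pbs_map] at hn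
    obtain ⟨a, ha⟩ := (pbs_eq_zero_iff i hker I y _).1 hn
    have hw : w = (DerSch.stalkFunctor X (i y)).map μ' a := by
      refine stalk_injective ι (i y) (ha.trans ?_)
      rw [← map_comp_apply, hμ', map_smulMod]
    refine ⟨(St y).map π (pbs i I y a), ?_⟩
    rw [← map_comp_apply, hμ, pbs_map, ← hw]
  · obtain ⟨v, rfl⟩ := stalk_surjective π y g
    obtain ⟨a, rfl⟩ := pbs_surjective i I y v
    rw [← map_comp_apply, hμ, pbs_map] at hg
    obtain ⟨w, hw⟩ := (pbs_eq_zero_iff i hker (kernel φ) y _).1 hg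
    have ha : a = (DerSch.stalkFunctor X (i y)).map ι w := by
      apply hreg y
      rw [← map_smulMod, ← hμ', map_comp_apply, hw, map_smul]
    rw [ha, ← pbs_map, ← map_comp_apply, hνπ, map_zero_apply]

/-- The closed fibre over a discrete valuation ring is cut out by a uniformizer. -/
theorem exists_uniformizer {R : Type u} [CommRing R] [IsDomain R] [IsDiscreteValuationRing R] {X : Scheme.{u}}
    (f : X ⟶ Spec (CommRingCat.of R)) {q : Z ⟶ Spec (CommRingCat.of (IsLocalRing.ResidueField R))} (i : Z ⟶ X)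
    (hsq : IsPullback i q f (Spec.map (CommRingCat.ofHom (IsLocalRing.residue R)))) :
    IsClosedImmersion i ∧ ∃ ϖ : R, Irreducible ϖ ∧
      ∀ y, RingHom.ker (i.stalkMap y).hom = Ideal.span {X.presheaf.germ ⊤ (i y) trivial (Coh.toGlobal f ϖ)} := by
  haveI : IsClosedImmersion (Spec.map (CommRingCat.ofHom (IsLocalRing.residue R))) :=
    IsClosedImmersion.spec_of_surjective _ IsLocalRing.residue_surjective
  refine ⟨MorphismProperty.of_isPullback hsq.flip inferInstance, ?_⟩
  obtain ⟨ϖ, hϖ⟩ := IsDiscreteValuationRing.exists_irreducible R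
  refine ⟨ϖ, hϖ, fun y => ?_⟩
  obtain ⟨e, he⟩ : ∃ e : Z ≅ pullback f (Spec.map (CommRingCat.ofHom (IsLocalRing.residue R))),
      e.hom ≫ pullback.fst _ _ = i := ⟨hsq.isoPullback, hsq.isoPullback_hom_fst⟩
  subst he
  have h := (ModelLib7.ker_stalkMap_closedFibre f (e.hom y)).2
  rw [IsDiscreteValuationRing.irreducible_iff_uniformizer _ |>.1 hϖ, Ideal.map_span, Set.image_singleton] at h
  refine Eq.trans ?_ h
  rw [Scheme.Hom.stalkMap_comp, CommRingCat.hom_comp]
  exact RingHom.ker_comp_of_injective _ (asIso (e.hom.stalkMap y)).commRingCatIsoToRingEquiv.injective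

end Groth.Agent.TF7
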