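import Groth.Agent.TF7.Simple
import Groth.Agent.TF7.Exist
import Groth.Agent.KZeroLib.DevissageClosed
import Groth.Agent.FlatCx12.PushStalk
import Groth.Agent.CycLib28.PushStalk
import Groth.Agent.Props12.KerReduced

/-!
# Direct images of torsion-free modules from subcurves
-/

set_option autoImplicit false
set_option linter.style.haveILetI false
set_option backward.isDefEq.respectTransparency.types false
set_option backward.isDefEq.respectTransparency false

universe u

open CategoryTheory CategoryTheory.Limits AlgebraicGeometry Opposite TopologicalSpace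
open Groth.Agent.OmegaLib

noncomputable section

namespace Groth.Agent.TF7

variable {X : Scheme.{u}}

local notation "St" => DerSch.stalkFunctor X

instance isClosedImmersion_subschι (Y : Set X) (hY : IsClosed Y) : IsClosedImmersion (VecSt.subschι X Y hY) :=
  inferInstanceAs (IsClosedImmersion (Scheme.IdealSheafData.vanishingIdeal (X := X) ⟨Y, hY⟩).subschemeι)

theorem range_subschι (Y : Set X) (hY : IsClosed Y) : Set.range (VecSt.subschι X Y hY) = Y := by
  show Set.range (Scheme.IdealSheafData.vanishingIdeal (X := X) ⟨Y, hY⟩).subschemeι = Y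
  rw [Scheme.IdealSheafData.range_subschemeι, Scheme.IdealSheafData.coe_support_vanishingIdeal]
  rfl

theorem isReduced_subsch (Y : Set X) (hY : IsClosed Y) : IsReduced (VecSt.subsch X Y hY) :=
  Props12.isReduced_subscheme_vanishingIdeal ⟨Y, hY⟩

variable {Z : Scheme.{u}} (i : Z ⟶ X) [IsClosedImmersion i]

/-- The preimage of a generic point is generic. -/
theorem generic_preimage {y : Z} (hy : i y ∈ genericPoints X) : y ∈ genericPoints Z := by
  obtain ⟨y', hy', hs⟩ := exists_genericPoint_specializes y
  have h := eq_of_specializes_generic hy (hs.map i.continuous)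
  rwa [i.isClosedEmbedding.injective h] at hy'

/-- Morphisms into a direct image of a torsion-free module vanish when the source vanishes at the
generic points of the subscheme. -/
theorem hom_push_eq_zero [IsLocallyNoetherian Z] [IsReduced Z] {A : X.Modules} {J : Z.Modules} (hJ : Coh.IsQCoh J)
    (hJt : TorSh.IsTorsionFree J) (φ : A ⟶ (Coh.push i).obj J)
    (h : ∀ y ∈ genericPoints Z, ∀ a : (St (i y)).obj A, a = 0) : φ = 0 := by
  let adj := Scheme.Modules.pullbackPushforwardAdjunction i
  let g : (Scheme.Modules.pullback i).obj A ⟶ J := (adj.homEquiv A J).symm φ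
  have hg : g = 0 := VarietyLib.eq_zero_of_stalks _ fun y v => by
    refine eq_zero_of_generic hJ hJt _ fun η hη hs => ?_
    rw [spec_map]
    obtain ⟨a, ha⟩ := pbs_surjective i A η (spec ((Scheme.Modules.pullback i).obj A) hs v)
    rw [← ha, h η hη a, map_zero, map_zero]
  have e : φ = adj.homEquiv A J g := ((adj.homEquiv A J).apply_symm_apply φ).symm
  rw [e, hg, Adjunction.homEquiv_unit, Functor.map_zero, comp_zero]

variable (k : Type u) [Field k] [X.Over (Spec (CommRingCat.of k))]

theorem push_map_scalar (F : Z.Modules) (c : k) :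
    letI : Z.Over (Spec (CommRingCat.of k)) := ⟨i ≫ (X ↘ Spec (CommRingCat.of k))⟩
    (Coh.push i).map (Formal.smulMod k F c) = Formal.smulMod k ((Coh.push i).obj F) c := by
  letI : Z.Over (Spec (CommRingCat.of k)) := ⟨i ≫ (X ↘ Spec (CommRingCat.of k))⟩
  ext V s
  show (Z.presheaf.map (homOfLE (le_top : i ⁻¹ᵁ V ≤ ⊤)).op
      (Coh.toGlobal (Z ↘ Spec (CommRingCat.of k)) c) : Γ(Z, i ⁻¹ᵁ V)) • (show Γ(F, i ⁻¹ᵁ V) from s) =
    i.app V (X.presheaf.map (homOfLE (le_top : V ≤ ⊤)).op (Coh.toGlobal (X ↘ Spec (CommRingCat.of k)) c)) •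
      (show Γ(F, i ⁻¹ᵁ V) from s)
  congr 1
  exact (congr($(i.naturality (homOfLE (le_top : V ≤ ⊤)).op)
    (Coh.toGlobal (X ↘ Spec (CommRingCat.of k)) c))).symm

/-- Endomorphisms of the direct image of a simple module are scalars. -/
theorem end_push_scalar [IsLocallyNoetherian X] {F : Z.Modules}
    (hs : TFOne.IsSimple Z k (i ≫ (X ↘ Spec (CommRingCat.of k))) F)
    (f : (Coh.push i).obj F ⟶ (Coh.push i).obj F) : ∃ c : k, f = Formal.smulMod k _ c := by
  haveI : ∀ G : Z.Modules, IsIso ((Scheme.Modules.pullbackPushforwardAdjunction i).counit.app G) :=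
    KZeroLib.isIso_counit i
  haveI : IsIso (Scheme.Modules.pullbackPushforwardAdjunction i).counit := NatIso.isIso_of_isIso_app _
  obtain ⟨g, hg⟩ := ((Scheme.Modules.pullbackPushforwardAdjunction i).fullyFaithfulROfIsIsoCounit).map_surjective f
  obtain ⟨c, hc⟩ := hs.2 g
  subst hc
  exact ⟨c, hg.symm.trans (push_map_scalar i k F c)⟩

omit [X.Over (Spec (CommRingCat.of k))] in
/-- The stalk of the direct image of a rank one module at a generic point in its image is nonzero. -/
theorem push_ne_zero [IsReduced Z] {F : Z.Modules} (hF : TFOne.IsRkOne Z F) {η : X} (hη : η ∈ genericPoints X)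
    (hr : η ∈ Set.range i) : ∃ v : (St η).obj ((Coh.push i).obj F), v ≠ 0 := by
  obtain ⟨y, rfl⟩ := hr
  obtain ⟨e⟩ := FlatCx12.PushStalk.nonempty_stalkPushIso i y
  let e' := (e.app F).toLinearEquiv
  obtain ⟨e₁⟩ := hF y (generic_preimage i hη)
  haveI : Nontrivial ((DerSch.stalkFunctor Z y).obj F) :=
    show Nontrivial (F.presheaf.stalk y) from e₁.toEquiv.nontrivial
  haveI : Nontrivial ((St (i y)).obj ((Coh.push i).obj F)) :=
    @Equiv.nontrivial _ _ e'.toEquiv ‹Nontrivial ((DerSch.stalkFunctor Z y).obj F)›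
  exact exists_ne 0

omit [X.Over (Spec (CommRingCat.of k))] in
theorem push_stalk_zero (F : Z.Modules) {x : X} (hx : x ∉ Set.range i)
    (v : (St x).obj ((Coh.push i).obj F)) : v = 0 := by
  haveI := CycLib28.subsingleton_stalk_push i F hx
  exact Subsingleton.elim (α := ((Coh.push i).obj F).presheaf.stalk x) v 0

end Groth.Agent.TF7
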