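import Groth.Agent.TF7.ModifMin
import Groth.Agent.TF7.PushSimple
import Groth.Agent.TF7.Extension
import Groth.Agent.CycLib28.InterPull
import Groth.Agent.Misc15.StalkLoc
import Groth.Agent.AbCubeLib.FiniteDegree

/-!
# Torsion-free quotients seen on the subcurve
-/

set_option autoImplicit false
set_option linter.style.haveILetI false
set_option backward.isDefEq.respectTransparency.types false
set_option backward.isDefEq.respectTransparency false

universe u

open CategoryTheory CategoryTheory.Limits AlgebraicGeometry Opposite TopologicalSpace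
open Groth.Agent.OmegaLib Groth.Agent.Coherent
open scoped TensorProduct

noncomputable section

namespace Groth.Agent.TF7

/-- Kernel of `M → B ⊗ M` for a surjection `A → B`. -/
theorem mem_smul_top_of_one_tmul_eq_zero {A B : Type u} [CommRing A] [CommRing B] [Algebra A B]
    (hsurj : Function.Surjective (algebraMap A B))
    {M : Type u} [AddCommGroup M] [Module A M] (m : M) (h : (1 : B) ⊗ₜ[A] m = 0) :
    m ∈ RingHom.ker (algebraMap A B) • (⊤ : Submodule A M) := by
  let J : Ideal A := RingHom.ker (algebraMap A B)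
  have hex : Function.Exact J.subtype (Algebra.linearMap A B) := by
    intro a
    show algebraMap A B a = 0 ↔ a ∈ Set.range J.subtype
    rw [← RingHom.mem_ker]
    exact ⟨fun ha => ⟨⟨a, ha⟩, rfl⟩, by rintro ⟨⟨b, hb⟩, rfl⟩; exact hb⟩
  have h0 : (Algebra.linearMap A B).rTensor M ((1 : A) ⊗ₜ[A] m) = 0 := by simp [h]
  obtain ⟨z, hz⟩ := ((rTensor_exact M hex hsurj) _).1 h0
  have hm : m = TensorProduct.lid A M (J.subtype.rTensor M z) := by rw [hz]; simp
  subst hm
  clear h h0 hz
  induction z using TensorProduct.induction_on with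
  | zero => simp
  | tmul j a =>
    simpa using Submodule.smul_mem_smul j.2 (Submodule.mem_top : a ∈ (⊤ : Submodule A M))
  | add u v hu hv =>
    rw [map_add, map_add]
    exact add_mem hu hv

variable {X : Scheme.{u}}

local notation "St" => DerSch.stalkFunctor X

theorem spec_smul (M : X.Modules) {η x : X} (h : η ⤳ x) (a : X.presheaf.stalk x) (v : (St x).obj M) :
    spec M h (a • v) = X.presheaf.stalkSpecializes h a • spec M h v := by
  obtain ⟨U, hU, s, rfl⟩ := exists_gm M v
  obtain ⟨V, hV, r, rfl⟩ := X.presheaf.exists_germ_eq a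
  rw [← gm_res M hU (inf_le_left : U ⊓ V ≤ U) ⟨hU, hV⟩ s,
    ← TopCat.Presheaf.germ_res_apply X.presheaf (homOfLE (inf_le_right : U ⊓ V ≤ V)) x ⟨hU, hV⟩ r,
    ← gm_smul, spec_gm, spec_gm, gm_smul, TopCat.Presheaf.germ_stalkSpecializes_apply]

theorem spec_add (M : X.Modules) {η x : X} (h : η ⤳ x) (v w : (St x).obj M) :
    spec M h (v + w) = spec M h v + spec M h w :=
  map_add (M.presheaf.stalkSpecializes h).hom v w

variable {Z : Scheme.{u}} (i : Z ⟶ X) [IsClosedImmersion i]

omit [IsClosedImmersion i] in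
theorem pbs_smul (M : X.Modules) (y : Z) (a : X.presheaf.stalk (i y)) (m : (St (i y)).obj M) :
    pbs i M y (a • m) = (i.stalkMap y).hom a • pbs i M y m := by
  letI := (i.stalkMap y).hom.toAlgebra
  let E := ((ModStalk.pullbackStalkIso i y).app M).symm.toLinearEquiv
  refine Eq.trans ?_ (map_smul E ((i.stalkMap y).hom a) ((1 : Z.presheaf.stalk y) ⊗ₜ m))
  show E ((1 : Z.presheaf.stalk y) ⊗ₜ (a • m)) = E ((i.stalkMap y).hom a • ((1 : Z.presheaf.stalk y) ⊗ₜ m))
  congr 1
  rw [← TensorProduct.smul_tmul]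
  rfl

omit [IsClosedImmersion i] in
theorem spec_pbs (M : X.Modules) {η y : Z} (h : η ⤳ y) (m : (St (i y)).obj M) :
    spec ((Scheme.Modules.pullback i).obj M) h (pbs i M y m) = pbs i M η (spec M (h.map i.continuous) m) := by
  obtain ⟨U, hU, s, rfl⟩ := exists_gm M m
  rw [pbs_gm, spec_gm, spec_gm, pbs_gm]

/-- A non-zero-divisor does not vanish at a generalisation. -/
theorem spec_ne_zero_of_regular {η y : Z} (h : η ⤳ y) {b : Z.presheaf.stalk y} (hb : IsRegular b) :
    Z.presheaf.stalkSpecializes h b ≠ 0 := by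
  intro h0
  letI := (Z.presheaf.stalkSpecializes h).hom.toAlgebra
  haveI := Misc15.isLocalization_stalkSpecializes h
  obtain ⟨⟨s, hs⟩, hsb⟩ := (IsLocalization.map_eq_zero_iff
    ((IsUnit.submonoid (Z.presheaf.stalk η)).comap (Z.presheaf.stalkSpecializes h).hom)
    (Z.presheaf.stalk η) b).1 h0
  have hs0 : s = 0 := hb.right (show s * b = 0 * b by rw [zero_mul]; exact hsb)
  have hu : IsUnit ((Z.presheaf.stalkSpecializes h).hom s) := hs
  rw [hs0, map_zero] at hu
  exact not_isUnit_zero hu

variable [IsReduced X] [IsLocallyNoetherian X] [IsReduced Z]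

omit [IsReduced Z] in
theorem pbs_injective {GY : X.Modules} (hc : Coh.IsCoh GY) (ht : TorSh.IsTorsionFree GY)
    (hout : ∀ η ∈ genericPoints X, η ∉ Set.range i → ∀ g : (St η).obj GY, g = 0) (y : Z)
    (g : (St (i y)).obj GY) (hg : pbs i GY y g = 0) : g = 0 := by
  letI := (i.stalkMap y).hom.toAlgebra
  let E := ((ModStalk.pullbackStalkIso i y).app GY).symm.toLinearEquiv
  have hmem := mem_smul_top_of_one_tmul_eq_zero (i.stalkMap_surjective y) g (E.injective (hg.trans (map_zero E).symm))
  refine eq_zero_of_generic hc.1 ht g fun η hη hs => ?_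
  by_cases hr : η ∈ Set.range i
  swap
  · exact hout η hη hr _
  obtain ⟨y', rfl⟩ := hr
  have hyy : y' ⤳ y := i.isClosedEmbedding.isInducing.specializes_iff.1 hs
  refine Submodule.smul_induction_on (p := fun g => spec GY hs g = 0) hmem (fun a ha n _ => ?_)
    fun u v hu hv => by rw [spec_add, hu, hv, add_zero]
  · rw [spec_smul]
    have h0 : (i.stalkMap y').hom (X.presheaf.stalkSpecializes hs a) = 0 := by
      refine (congr($(Scheme.Hom.stalkSpecializes_stalkMap i y' y hyy) a)).trans ?_
      show Z.presheaf.stalkSpecializes hyy ((i.stalkMap y).hom a) = 0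
      rw [show (i.stalkMap y).hom a = 0 from RingHom.mem_ker.1 ha, map_zero]
    letI := (isField_stalk hη).toField
    rw [(i.stalkMap y').hom.injective (h0.trans (map_zero _).symm), zero_smul]

/-- A torsion-free sheaf on a subcurve is a rank one torsion-free sheaf of the subscheme. -/
theorem isTF1_pullback {M GY : X.Modules} (hM : TFOne.IsTF1 X M) {Y : Set X} {π : M ⟶ GY}
    (hY : TFOne.IsQuotOn X M Y GY π) (hr : Set.range i = Y) (hYs : VecSt.IsSubcurve X Y) :
    TFOne.IsTF1 Z ((Scheme.Modules.pullback i).obj GY) := by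
  haveI := hY.1
  have hout : ∀ η ∈ genericPoints X, η ∉ Set.range i → ∀ g : (St η).obj GY, g = 0 :=
    fun η _ h g => stalk_zero_of_notMem hY (hr ▸ h) g
  refine ⟨CycLib28.InterSheaf.isCoh_pullback i hY.2.1, fun y => ⟨fun b hb v v' h => ?_⟩, fun y hy => ?_⟩
  · obtain ⟨g, rfl⟩ := pbs_surjective i GY y v
    obtain ⟨g', rfl⟩ := pbs_surjective i GY y v'
    obtain ⟨a, rfl⟩ := i.stalkMap_surjective y b
    have h' : (i.stalkMap y).hom a • pbs i GY y g = (i.stalkMap y).hom a • pbs i GY y g' := h
    rw [← pbs_smul, ← pbs_smul] at h'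
    have h0 : a • (g - g') = 0 := pbs_injective i hY.2.1 hY.2.2.1 hout y _ (by
      rw [smul_sub, map_sub, h', sub_self])
    have hz : g - g' = 0 := eq_zero_of_generic hY.2.1.1 hY.2.2.1 _ fun η hη hs => by
      by_cases hη' : η ∈ Set.range i
      · obtain ⟨y', rfl⟩ := hη'
        have hyy : y' ⤳ y := i.isClosedEmbedding.isInducing.specializes_iff.1 hs
        have hne : X.presheaf.stalkSpecializes hs a ≠ 0 := fun h1 => spec_ne_zero_of_regular hyy hb (by
          refine (congr($(Scheme.Hom.stalkSpecializes_stalkMap i y' y hyy) a)).symm.trans ?_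
          show (i.stalkMap y').hom (X.presheaf.stalkSpecializes hs a) = 0
          rw [h1, map_zero])
        obtain ⟨c, hc⟩ := (isField_stalk hη).mul_inv_cancel hne
        have h2 := congrArg (fun z => c • spec GY hs z) h0
        dsimp only at h2
        rw [spec_smul, spec_zero, smul_zero, smul_smul, mul_comm, hc, one_smul] at h2
        exact h2
      · exact hout η hη hη' _
    rw [sub_eq_zero.1 hz]
  · have hη := generic_image hYs i hr hy
    letI := (isField_stalk hη).toField
    have hbij : Function.Bijective (i.stalkMap y).hom := ⟨(i.stalkMap y).hom.injective, i.stalkMap_surjective y⟩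
    obtain ⟨e⟩ := hM.2.2 (i y) hη
    let v₀ : (St (i y)).obj GY := (St (i y)).map π ((show (St (i y)).obj M ≃ₗ[X.presheaf.stalk (i y)] _ from e).symm 1)
    let L := LinearMap.toSpanSingleton (Z.presheaf.stalk y)
      ((DerSch.stalkFunctor Z y).obj ((Scheme.Modules.pullback i).obj GY)) (pbs i GY y v₀)
    refine ⟨(LinearEquiv.ofBijective L ⟨?_, fun w => ?_⟩).symm⟩
    · refine (injective_iff_map_eq_zero L).2 fun b hb => ?_
      obtain ⟨a, rfl⟩ := hbij.2 b
      have h0 : a • v₀ = 0 := pbs_injective i hY.2.1 hY.2.2.1 hout y _ (by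
        rw [pbs_smul]; exact hb)
      have h1 := quot_injective_generic (leOne_of_isRkOne hM.2.2) hY hη (hr ▸ ⟨y, rfl⟩)
        (m := a • (show (St (i y)).obj M ≃ₗ[X.presheaf.stalk (i y)] _ from e).symm 1) (by rw [map_smul]; exact h0)
      rw [← map_smul, smul_eq_mul, mul_one, LinearEquiv.map_eq_zero_iff] at h1
      rw [h1, map_zero]
    · obtain ⟨g, rfl⟩ := pbs_surjective i GY y w
      obtain ⟨m, rfl⟩ := stalk_surjective π (i y) g
      refine ⟨(i.stalkMap y).hom ((show (St (i y)).obj M ≃ₗ[X.presheaf.stalk (i y)] _ from e) m), ?_⟩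
      show (i.stalkMap y).hom _ • pbs i GY y v₀ = _
      rw [← pbs_smul, ← map_smul, ← map_smul, smul_eq_mul, mul_one, LinearEquiv.symm_apply_apply]

end Groth.Agent.TF7
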